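import Cfsg.Agent.Lib.F4Invol.Moves

/-!
A checkable certificate for the descent of involutions: a list of states, each a set of roots and a
set of nonzero coordinates as bit masks, with a step pointing to later states.
-/

set_option autoImplicit false
set_option linter.unusedSectionVars false

namespace CfsgLib.F4Invol

open Cfsg.Lie CfsgLib.ChevStr
open scoped MatrixGroups

/-- The set of a mask. -/
def bset (P : ℕ) : Set ℕ := {r | P.testBit r = true}

theorem mem_bset {P r : ℕ} : r ∈ bset P ↔ P.testBit r = true := Iff.rfl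

/-- The bit `r`. -/
def pw (r : ℕ) : ℕ := 1 <<< r

theorem testBit_pw (r x : ℕ) : (pw r).testBit x = decide (r = x) := by
  rw [pw, Nat.one_shiftLeft, Nat.testBit_two_pow]

/-- Removal of a bit. -/
def erase (P r : ℕ) : ℕ := P ^^^ (P &&& pw r)

theorem bset_erase (P r : ℕ) : bset (erase P r) = bset P \ {r} := by
  ext x
  simp only [mem_bset, erase, Nat.testBit_xor, Nat.testBit_and, testBit_pw, Set.mem_sdiff,
    Set.mem_singleton_iff]
  by_cases h : r = x
  · subst h; cases P.testBit r <;> simp
  · simp [h, Ne.symm h]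

/-- The subset test. -/
def subB (A B : ℕ) : Bool := Nat.beq (A &&& B) A

theorem subB_spec {A B : ℕ} (h : subB A B = true) : bset A ⊆ bset B := by
  intro x hx
  have h' := congrArg (fun z => Nat.testBit z x) (Nat.eq_of_beq_eq_true h)
  simp only [Nat.testBit_and, mem_bset.1 hx, Bool.true_and] at h'
  exact h'

/-- Tables: commutator masks, negatives, reflections, and the positive roots. -/
structure Tables where
  N : ℕ
  row : List ℕ
  neg : List ℕ
  refl : List ℕ
  pos : ℕ

/-- The roots of a mask. -/
def Tables.bits (T : Tables) (P : ℕ) : List ℕ := (List.range T.N).filter fun r => P.testBit r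

/-- The odd commutator terms of a pair, as a mask. -/
def Tables.mask (T : Tables) (r s : ℕ) : ℕ := (T.row.getD r 0 >>> (T.N * s)) &&& (pw T.N - 1)

/-- The image of a root under a fundamental reflection. -/
def Tables.img (T : Tables) (i r : ℕ) : ℕ := (T.refl.getD i 0 >>> (8 * r)) &&& 255

/-- The mask of the terms. -/
def termMask (D : ChevalleyDatum) (r s : ℕ) : ℕ :=
  (oddTerms D r s).foldl (fun acc c => acc ||| pw c.1) 0

theorem testBit_foldl (l : List (ℕ × ℤ × ℕ × ℕ)) : ∀ (acc x : ℕ),
    (l.foldl (fun acc c => acc ||| pw c.1) acc).testBit x =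
      (acc.testBit x || l.any fun c => decide (c.1 = x)) := by
  induction l with
  | nil => simp
  | cons c l ih =>
    intro acc x
    rw [List.foldl_cons, ih, Nat.testBit_or, testBit_pw, List.any_cons, Bool.or_assoc]

theorem testBit_termMask {D : ChevalleyDatum} {r s x : ℕ} :
    (termMask D r s).testBit x = true ↔ ∃ c ∈ oddTerms D r s, c.1 = x := by
  simp [termMask, testBit_foldl, List.any_eq_true]

/-- The tables agree with the datum. -/
def tablesOK (D : ChevalleyDatum) (T : Tables) : Bool :=
  Nat.beq T.N D.nroots && Nat.blt T.pos (pw T.N) &&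
  (List.range T.N).all fun r =>
    Nat.beq (T.neg.getD r 0) (D.neg r) && (!T.pos.testBit r || decide (D.IsPosRoot r)) &&
    ((List.range D.rank).all fun i => Nat.beq (T.img i r) (D.reflectRoot i r)) &&
    ((List.range T.N).all fun s =>
      Nat.beq s r || Nat.beq s (T.neg.getD r 0) || Nat.beq (T.mask r s) (termMask D r s))

/-- `x_r` normalises the subgroup of `S`. -/
def Tables.stepB (T : Tables) (r S : ℕ) : Bool :=
  Nat.blt r T.N && Nat.blt S (pw T.N) && !S.testBit (T.neg.getD r 0) &&
    (T.bits S).all fun s => Nat.beq s r || subB (T.mask r s) S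

/-- `S` is a closed set of positive roots. -/
def Tables.closedB (T : Tables) (S : ℕ) : Bool :=
  subB S T.pos && (T.bits S).all fun r => T.stepB r S

/-- A step of the descent. -/
inductive Step where
  | empty
  | branch (r c₀ c₁ : ℕ)
  | kill (s r t P2 c : ℕ)
  | contra (a b t : ℕ)
  | move (w : List ℕ) (c : ℕ)
  | done (k : ℕ)

/-- The image of a mask. -/
def Tables.imgMask (T : Tables) (i P : ℕ) : ℕ := (T.bits P).foldl (fun acc r => acc ||| pw (T.img i r)) 0

/-- The check of a kill step. -/
def Tables.killB (D : ChevalleyDatum) (T : Tables) (P M s r t P2 P' M' : ℕ) : Bool :=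
  Nat.blt s T.N && subB P P2 && T.closedB P2 && T.stepB s P2 && P2.testBit t && P.testBit r &&
  M.testBit r && !Nat.beq r t && !Nat.beq r s &&
  (T.bits P2).all (fun u => T.stepB u (erase P2 t)) && T.stepB r (erase P r) &&
  (T.bits (erase P2 r)).all (fun u => Nat.beq u s || !(T.mask s u).testBit t) &&
  (match (oddTerms D s r).filter fun c => decide (c.1 = t) with
    | [c] => Nat.beq c.2.2.1 1 || Nat.beq c.2.2.1 2
    | _ => false) &&
  Nat.beq P' (erase P2 t) && subB M' M && Nat.blt M' (pw T.N) &&
  (T.bits M').all fun n => P.testBit n && !Nat.beq n t && T.closedB (erase P2 n) &&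
    T.stepB s (erase P2 n) && T.stepB n (erase P n)

/-- The check of a contradiction step. -/
def Tables.contraB (D : ChevalleyDatum) (T : Tables) (P M a b t : ℕ) : Bool :=
  let Q := erase (erase (erase P a) b) t
  T.closedB P && P.testBit a && P.testBit b && P.testBit t && M.testBit a && M.testBit b &&
  !Nat.beq a b && !Nat.beq a t && !Nat.beq b t && T.closedB Q &&
  (T.bits P).all (fun u => T.stepB u Q) && T.stepB a (erase P a) && T.stepB b (erase (erase P a) b) &&
  subB (T.mask a t) Q && subB (T.mask b t) Q && subB (T.mask a b) (Q ||| pw t) &&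
  (match (oddTerms D a b).filter fun c => decide (c.1 = t) with
    | [c] => Nat.beq c.2.2.1 1 && Nat.beq c.2.2.2 1
    | _ => false)

/-- A state with its step. -/
abbrev Node := ℕ × ℕ × Step

/-- The check of the state number `k`; `reps` are the final states. -/
def Tables.nodeB (D : ChevalleyDatum) (T : Tables) (reps : List ℕ) (nodes : List Node) (k : ℕ) : Bool :=
  let nd := nodes.getD k (0, 0, Step.empty)
  let P := nd.1
  let M := nd.2.1
  match nd.2.2 with
  | Step.empty => Nat.beq P 0
  | Step.branch r c₀ c₁ =>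
    let A := nodes.getD c₀ (0, 0, Step.empty)
    let B := nodes.getD c₁ (0, 0, Step.empty)
    Nat.blt k c₀ && Nat.blt k c₁ && Nat.blt c₀ nodes.length && Nat.blt c₁ nodes.length &&
      Nat.beq A.1 (erase P r) && subB A.2.1 M && Nat.beq B.1 P && subB B.2.1 (M ||| pw r)
  | Step.kill s r t P2 c =>
    let A := nodes.getD c (0, 0, Step.empty)
    Nat.blt k c && Nat.blt c nodes.length && T.killB D P M s r t P2 A.1 A.2.1
  | Step.contra a b t => T.contraB D P M a b t
  | Step.move w c =>
    let A := nodes.getD c (0, 0, Step.empty)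
    Nat.blt k c && Nat.blt c nodes.length && Nat.blt P (pw T.N) && subB M P &&
      w.all (fun i => Nat.blt i D.rank) && Nat.beq A.1 (w.foldl (fun S i => T.imgMask i S) P) &&
      subB A.2.1 (w.foldl (fun S i => T.imgMask i S) M)
  | Step.done j => Nat.blt j reps.length && Nat.beq P (reps.getD j 0) && Nat.beq M P

variable {D : ChevalleyDatum} {T : Tables}

theorem bits_eq (hT : tablesOK D T = true) {P : ℕ} (hP : P < pw T.N) {r : ℕ} :
    r ∈ T.bits P ↔ r ∈ bset P := by
  simp only [Tables.bits, List.mem_filter, List.mem_range, mem_bset, and_iff_right_iff_imp]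
  intro h
  by_contra hr
  rw [Nat.testBit_eq_false_of_lt (lt_of_lt_of_le hP ?_)] at h
  · exact Bool.false_ne_true h
  · rw [pw, Nat.one_shiftLeft]; exact Nat.pow_le_pow_right (by norm_num) (by omega)

theorem lt_of_bset (hT : tablesOK D T = true) {P r : ℕ} (hP : P < pw T.N) (hr : r ∈ bset P) :
    r < D.nroots := by
  have h := (List.mem_filter.1 ((bits_eq hT hP).2 hr)).1
  simp only [tablesOK, Bool.and_eq_true] at hT
  rw [← Nat.eq_of_beq_eq_true hT.1.1]
  exact List.mem_range.1 h

theorem table_facts (hT : tablesOK D T = true) {r : ℕ} (hr : r < T.N) :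
    T.neg.getD r 0 = D.neg r ∧ (T.pos.testBit r = true → D.IsPosRoot r) ∧
      (∀ i < D.rank, T.img i r = D.reflectRoot i r) ∧
      ∀ s < T.N, s ≠ r → s ≠ D.neg r → T.mask r s = termMask D r s := by
  simp only [tablesOK, Bool.and_eq_true, List.all_eq_true, List.mem_range, Bool.or_eq_true,
    Bool.not_eq_true', decide_eq_true_eq] at hT
  obtain ⟨⟨⟨h1, h2⟩, h3⟩, h4⟩ := hT.2 r hr
  have hn := Nat.eq_of_beq_eq_true h1
  refine ⟨hn, fun h => h2.resolve_left (by simp [h]), fun i hi => Nat.eq_of_beq_eq_true (h3 i hi),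
    fun s hs hsr hsn => ?_⟩
  rcases h4 s hs with (h | h) | h
  · exact absurd (Nat.eq_of_beq_eq_true h) hsr
  · exact absurd ((Nat.eq_of_beq_eq_true h).trans hn) hsn
  · exact Nat.eq_of_beq_eq_true h

theorem mask_term (hT : tablesOK D T = true) {r s : ℕ} (hr : r < T.N) (hs : s < T.N) (h1 : s ≠ r)
    (h2 : s ≠ D.neg r) {c : ℕ × ℤ × ℕ × ℕ} (hc : c ∈ oddTerms D r s) :
    (T.mask r s).testBit c.1 = true := by
  rw [(table_facts hT hr).2.2.2 s hs h1 h2]
  exact testBit_termMask.2 ⟨c, hc, rfl⟩

theorem stepB_spec (hT : tablesOK D T = true) {r S : ℕ} (h : T.stepB r S = true) :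
    r < D.nroots ∧ OddStep D r (bset S) := by
  simp only [Tables.stepB, Bool.and_eq_true, Bool.or_eq_true, Bool.not_eq_true', List.all_eq_true] at h
  obtain ⟨⟨⟨hr, hS⟩, hneg⟩, hall⟩ := h
  have hr' : r < T.N := Nat.le_of_ble_eq_true hr
  have hS' : S < pw T.N := Nat.le_of_ble_eq_true hS
  have hN : T.N = D.nroots := by
    simp only [tablesOK, Bool.and_eq_true] at hT; exact Nat.eq_of_beq_eq_true hT.1.1
  refine ⟨hN ▸ hr', fun s hs => ⟨lt_of_bset hT hS' hs, ?_, fun hsr c hc => ?_⟩⟩
  · intro e
    rw [(table_facts hT hr').1, ← e, mem_bset.1 hs] at hneg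
    exact absurd hneg (by simp)
  · have hsn : s ≠ D.neg r := by
      intro e
      rw [(table_facts hT hr').1, ← e, mem_bset.1 hs] at hneg
      exact absurd hneg (by simp)
    rcases hall s ((bits_eq hT hS').2 hs) with h | h
    · exact absurd (Nat.eq_of_beq_eq_true h) hsr
    · exact subB_spec h (mask_term hT hr' (hN ▸ lt_of_bset hT hS' hs) hsr hsn hc)

theorem closedB_lt (hT : tablesOK D T = true) {S : ℕ} (h : T.closedB S = true) : S < pw T.N := by
  simp only [Tables.closedB, Bool.and_eq_true] at h
  have hp : T.pos < pw T.N := by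
    simp only [tablesOK, Bool.and_eq_true] at hT; exact Nat.le_of_ble_eq_true hT.1.2
  have := Nat.eq_of_beq_eq_true h.1
  exact lt_of_le_of_lt (this ▸ Nat.and_le_right) hp

theorem closedB_spec (hT : tablesOK D T = true) {S : ℕ} (h : T.closedB S = true) :
    Closed2 D (bset S) := by
  have hlt := closedB_lt hT h
  have hN : T.N = D.nroots := by
    simp only [tablesOK, Bool.and_eq_true] at hT; exact Nat.eq_of_beq_eq_true hT.1.1
  simp only [Tables.closedB, Bool.and_eq_true, List.all_eq_true] at h
  exact ⟨fun r hr => (table_facts hT (hN ▸ lt_of_bset hT hlt hr)).2.1 (subB_spec h.1 hr),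
    fun r hr => (stepB_spec hT (h.2 r ((bits_eq hT hlt).2 hr))).2⟩

theorem imgMask_spec (hT : tablesOK D T = true) {i : ℕ} (hi : i < D.rank) {P : ℕ} (hP : P < pw T.N) :
    bset (T.imgMask i P) = D.reflectRoot i '' bset P := by
  ext x
  have key : ∀ (l : List ℕ) (acc : ℕ), (l.foldl (fun acc r => acc ||| pw (T.img i r)) acc).testBit x = true ↔
      acc.testBit x = true ∨ ∃ r ∈ l, T.img i r = x := by
    intro l
    induction l with
    | nil => simp
    | cons a l ih =>
      intro acc
      rw [List.foldl_cons, ih, Nat.testBit_or, testBit_pw]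
      simp [or_assoc]
  rw [mem_bset, Tables.imgMask, key, Set.mem_image]
  simp only [Nat.zero_testBit, Bool.false_eq_true, false_or]
  constructor
  · rintro ⟨r, hr, h⟩
    refine ⟨r, (bits_eq hT hP).1 hr, ?_⟩
    rwa [← (table_facts hT (List.mem_range.1 (List.mem_filter.1 hr).1)).2.2.1 i hi]
  · rintro ⟨r, hr, h⟩
    have hr' := (bits_eq hT hP).2 hr
    refine ⟨r, hr', ?_⟩
    rw [(table_facts hT (List.mem_range.1 (List.mem_filter.1 hr').1)).2.2.1 i hi]
    exact h

variable {F : Type*} [Field F] [CharP F 2] (C : ChevCore D F) {Tgt : Set (GL D.Idx F)}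

include C in
theorem imgFold_spec (hT : tablesOK D T = true) : ∀ (w : List ℕ) (hw : ∀ i ∈ w, i < D.rank) {P : ℕ},
    P < pw T.N → bset (w.foldl (fun S i => T.imgMask i S) P) =
      (w.attach.map fun i => (⟨i.1, hw i.1 i.2⟩ : Fin D.rank)).foldl
        (fun S i => D.reflectRoot i.val '' S) (bset P) := by
  intro w
  induction w with
  | nil => intro _ P _; rfl
  | cons a w ih =>
    intro hw P hP
    have hlt : T.imgMask a P < pw T.N := by
      rw [pw, Nat.one_shiftLeft]
      refine Nat.lt_pow_two_of_testBit _ fun x hx => ?_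
      by_contra hc
      have hx' : x ∈ bset (T.imgMask a P) := mem_bset.2 (by simpa using hc)
      rw [imgMask_spec hT (hw a (List.mem_cons_self ..)) hP] at hx'
      obtain ⟨r, hr, rfl⟩ := hx'
      have h1 := lt_of_bset hT hP hr
      have hN : T.N = D.nroots := by
        simp only [tablesOK, Bool.and_eq_true] at hT; exact Nat.eq_of_beq_eq_true hT.1.1
      have h2 := C.hR.sPerm_val ⟨a, hw a (List.mem_cons_self ..)⟩ ⟨r, h1⟩
      have h3 := (C.hR.sPerm ⟨a, hw a (List.mem_cons_self ..)⟩ ⟨r, h1⟩).isLt
      rw [h2] at h3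
      simp only at h3
      omega
    rw [List.foldl_cons, ih (fun i hi => hw i (List.mem_cons_of_mem _ hi)) hlt,
      imgMask_spec hT (hw a (List.mem_cons_self ..)) hP]
    simp [List.attach_cons, List.map_map, Function.comp_def]

/-- Soundness of the certificate. -/
theorem good_of_check [Finite F] (hT : tablesOK D T = true) {reps : List ℕ} {nodes : List Node}
    (hc : ∀ k < nodes.length, T.nodeB D reps nodes k = true)
    (hreps : ∀ j < reps.length, Good C Tgt (bset (reps.getD j 0)) (bset (reps.getD j 0))) :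
    ∀ k < nodes.length,
      Good C Tgt (bset (nodes.getD k (0, 0, Step.empty)).1) (bset (nodes.getD k (0, 0, Step.empty)).2.1) := by
  have hN : T.N = D.nroots := by
    simp only [tablesOK, Bool.and_eq_true] at hT; exact Nat.eq_of_beq_eq_true hT.1.1
  suffices ∀ m k, k < nodes.length → nodes.length ≤ k + m →
      Good C Tgt (bset (nodes.getD k (0, 0, Step.empty)).1) (bset (nodes.getD k (0, 0, Step.empty)).2.1) from
    fun k hk => this nodes.length k hk (by omega)
  intro m
  induction m with
  | zero => intro k hk h; omega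
  | succ m ih =>
    intro k hk hkm
    have h := hc k hk
    rcases hnd : nodes.getD k (0, 0, Step.empty) with ⟨P, M, st⟩
    simp only [Tables.nodeB, hnd] at h
    cases st with
    | empty =>
      simp only at h
      exact good_empty C (by
        rw [Nat.eq_of_beq_eq_true h]; ext x; simp [mem_bset])
    | branch r c₀ c₁ =>
      simp only [Bool.and_eq_true] at h
      obtain ⟨⟨⟨⟨⟨⟨⟨h1, h2⟩, h3⟩, h4⟩, h5⟩, h6⟩, h7⟩, h8⟩ := h
      have a1 := ih c₀ (Nat.le_of_ble_eq_true h3) (by have := Nat.le_of_ble_eq_true h1; omega)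
      have a2 := ih c₁ (Nat.le_of_ble_eq_true h4) (by have := Nat.le_of_ble_eq_true h2; omega)
      rw [Nat.eq_of_beq_eq_true h5, bset_erase] at a1
      rw [Nat.eq_of_beq_eq_true h7] at a2
      refine good_branch C (r := r) ?_ (subB_spec h6) a1 a2
      refine (subB_spec h8).trans fun x hx => ?_
      simp only [mem_bset, Nat.testBit_or, testBit_pw, Bool.or_eq_true, decide_eq_true_eq] at hx
      rcases hx with h | h
      · exact Or.inr h
      · exact Or.inl h.symm
    | kill s r t P2 c =>
      simp only [Bool.and_eq_true] at h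
      obtain ⟨⟨h1, h2⟩, h3⟩ := h
      have a1 := ih c (Nat.le_of_ble_eq_true h2) (by have := Nat.le_of_ble_eq_true h1; omega)
      simp only [Tables.killB, Bool.and_eq_true, List.all_eq_true, Bool.or_eq_true, Bool.not_eq_true'] at h3
      obtain ⟨⟨⟨⟨⟨⟨⟨⟨⟨⟨⟨⟨⟨⟨⟨⟨b1, b2⟩, b3⟩, b4⟩, b5⟩, b6⟩, b7⟩, b8⟩, b9⟩, b10⟩, b11⟩, b12⟩, b13⟩, b14⟩, b15⟩, b16⟩, b17⟩ := h3
      have hs : s < T.N := Nat.le_of_ble_eq_true b1
      have hP2 := closedB_spec hT b3
      have hlt2 := closedB_lt hT b3
      rw [Nat.eq_of_beq_eq_true b14, bset_erase] at a1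
      have herase : ∀ {x : ℕ}, x ∈ bset (erase P2 r) → x ∈ T.bits (erase P2 r) := by
        intro x hx
        rw [bset_erase] at hx
        simp only [Tables.bits, List.mem_filter, List.mem_range]
        refine ⟨hN ▸ lt_of_bset hT hlt2 hx.1, ?_⟩
        rw [← mem_bset, bset_erase]; exact hx
      split at b13
      case h_2 => exact absurd b13 Bool.false_ne_true
      case h_1 c₀ hc₀ =>
        have hi : c₀.2.2.1 = 1 ∨ c₀.2.2.1 = 2 := by
          simp only [Bool.or_eq_true] at b13
          exact b13.imp Nat.eq_of_beq_eq_true Nat.eq_of_beq_eq_true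
        refine good_kill C (hN ▸ hs) (subB_spec b2) hP2 (stepB_spec hT b4).2
          (fun u hu => by
            rw [← bset_erase]; exact (stepB_spec hT (b10 u ((bits_eq hT hlt2).2 hu))).2)
          (mem_bset.2 b5) (mem_bset.2 b6) (mem_bset.2 b7)
          (fun e => by subst e; simp at b8) (fun e => by subst e; simp at b9)
          (by rw [← bset_erase]; exact (stepB_spec hT b11).2)
          (fun u hu hus d hd => ?_) hc₀ hi (fun n hn => ?_) a1
        · rw [← bset_erase] at hu
          have hu' := herase hu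
          intro e
          rcases b12 u hu' with h | h
          · exact hus (Nat.eq_of_beq_eq_true h)
          · rw [bset_erase] at hu
            have := mask_term hT hs (hN ▸ lt_of_bset hT hlt2 hu.1) hus
              ((stepB_spec hT b4).2 u hu.1).2.1 hd
            rw [e, h] at this
            exact Bool.false_ne_true this
        · obtain ⟨⟨⟨⟨c1, c2⟩, c3⟩, c4⟩, c5⟩ := b17 n ((bits_eq hT (Nat.le_of_ble_eq_true b16)).2 hn)
          refine ⟨subB_spec b15 hn, mem_bset.2 c1, fun e => by subst e; simp at c2,
            by rw [← bset_erase]; exact closedB_spec hT c3,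
            by rw [← bset_erase]; exact (stepB_spec hT c4).2,
            by rw [← bset_erase]; exact (stepB_spec hT c5).2⟩
    | contra a b t =>
      simp only [Tables.contraB, Bool.and_eq_true, List.all_eq_true, Bool.not_eq_true'] at h
      obtain ⟨⟨⟨⟨⟨⟨⟨⟨⟨⟨⟨⟨⟨⟨⟨⟨b1, b2⟩, b3⟩, b4⟩, b5⟩, b6⟩, b7⟩, b8⟩, b9⟩, b10⟩, b11⟩, b12⟩, b13⟩, b14⟩, b15⟩, b16⟩, b17⟩ := h
      have hP := closedB_spec hT b1
      have hQ := closedB_spec hT b10
      simp only [bset_erase] at hQ
      have hmask : ∀ {u v : ℕ}, P.testBit u = true → P.testBit v = true → u ≠ v →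
          ∀ d ∈ oddTerms D u v, (T.mask u v).testBit d.1 = true := by
        intro u v hu hv huv d hd
        exact mask_term hT (hN ▸ (hP.pos u hu).1) (hN ▸ (hP.pos v hv).1) (Ne.symm huv)
          ((hP.step u hu) v hv).2.1 hd
      have hab : a ≠ b := fun e => by subst e; simp at b7
      have hat : a ≠ t := fun e => by subst e; simp at b8
      have hbt : b ≠ t := fun e => by subst e; simp at b9
      split at b17
      case h_2 => exact absurd b17 Bool.false_ne_true
      case h_1 c₀ hc₀ =>
        simp only [Bool.and_eq_true] at b17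
        refine good_contra C hP (mem_bset.2 b2) (mem_bset.2 b3) (mem_bset.2 b4) (mem_bset.2 b5)
          (mem_bset.2 b6) hab hat hbt hQ
          (fun u hu => by
            have := (stepB_spec hT (b11 u ((bits_eq hT (closedB_lt hT b1)).2 hu))).2
            simpa only [bset_erase] using this)
          (by rw [← bset_erase]; exact (stepB_spec hT b12).2)
          (by have := (stepB_spec hT b13).2; simpa only [bset_erase] using this)
          (fun d hd => by
            have := subB_spec b14 (hmask b2 b4 hat d hd)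
            simpa only [bset_erase] using this)
          (fun d hd => by
            have := subB_spec b15 (hmask b3 b4 hbt d hd)
            simpa only [bset_erase] using this)
          (fun d hd => by
            have h' := subB_spec b16 (hmask b2 b3 hab d hd)
            simp only [mem_bset, Nat.testBit_or, testBit_pw, Bool.or_eq_true, decide_eq_true_eq] at h'
            rcases h' with h' | h'
            · right
              have := mem_bset.2 h'
              simpa only [bset_erase] using this
            · exact Or.inl h'.symm)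
          hc₀ ⟨Nat.eq_of_beq_eq_true b17.1, Nat.eq_of_beq_eq_true b17.2⟩
    | move w c =>
      simp only [Bool.and_eq_true, List.all_eq_true] at h
      obtain ⟨⟨⟨⟨⟨⟨h1, h2⟩, h3⟩, h4⟩, h5⟩, h6⟩, h7⟩ := h
      have hw : ∀ i ∈ w, i < D.rank := fun i hi => Nat.le_of_ble_eq_true (h5 i hi)
      have hP : P < pw T.N := Nat.le_of_ble_eq_true h3
      have hM : M < pw T.N := lt_of_le_of_lt
        ((Nat.eq_of_beq_eq_true h4) ▸ Nat.and_le_right) hP
      have a1 := (ih c (Nat.le_of_ble_eq_true h2) (by have := Nat.le_of_ble_eq_true h1; omega)).mono C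
        (subB_spec h7)
      rw [Nat.eq_of_beq_eq_true h6, imgFold_spec C hT w hw hP, imgFold_spec C hT w hw hM] at a1
      exact good_moves C _ (fun r hr => lt_of_bset hT hP hr) (subB_spec h4) a1
    | done j =>
      simp only [Bool.and_eq_true] at h
      rw [show M = P from Nat.eq_of_beq_eq_true h.2, Nat.eq_of_beq_eq_true h.1.2]
      exact hreps j (Nat.le_of_ble_eq_true h.1.1)

end CfsgLib.F4Invol
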