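import Cfsg.Agent.Lib.F4Invol.Data

/-!
Kernel check of part of the certificate for the involutions of F4.
-/

set_option autoImplicit false

namespace CfsgLib.F4Invol

theorem f4Check0 : ((List.range' 0 129).all fun k =>
    tabF4.nodeB Cfsg.Lie.chevF4 f4Reps f4Nodes k) = true := by decide +kernel

end CfsgLib.F4Invol
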