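import Cfsg.Agent.Lib.F4Invol.Rank

/-!
Kernel checked ranks of the representatives of the involution classes of F4.
-/

set_option autoImplicit false

namespace CfsgLib.F4Invol

open Cfsg.Lie CfsgLib.ChevStr CfsgLib.Twisted
open scoped MatrixGroups

variable (F : Type*) [Field F] [CharP F 2]

/-- The representatives. -/
noncomputable def rep : Fin 4 → GL chevF4.Idx F :=
  ![(coreF4 F).xGL 47 1, (coreF4 F).xGL 44 1, (coreF4 F).xGL 47 1 * (coreF4 F).xGL 44 1,
    (coreF4 F).xGL 39 1 * (coreF4 F).xGL 45 1]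

theorem rep0_sub : ((rep F 0 : GL chevF4.Idx F) : Matrix chevF4.Idx chevF4.Idx F) - 1 =
    spMat F (code chevF4) (code chevF4) (oddPos 47) := by
  show chevF4.x F 47 1 - 1 = _
  rw [x_one_eq (by decide +kernel), add_sub_cancel_left]

theorem rankI_rep0 : rankI (rep F 0) = 6 := by
  rw [rankI, rep0_sub, ← spMat_posI, spMat_mul (code_injective chevF4) exists_code _ _ (by decide +kernel),
    spMat_eq (l' := [(33, 7), (40, 11), (42, 12), (43, 13), (44, 15), (48, 22)]) (by decide +kernel)]
  exact rank_of_cert (r := 6) (A := [(33, 0), (40, 1), (42, 2), (43, 3), (44, 4), (48, 5)])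
    (B := [(0, 7), (1, 11), (2, 12), (3, 13), (4, 15), (5, 22)]) (A' := [(0, 33), (1, 40), (2, 42), (3, 43), (4, 44), (5, 48)]) (B' := [(7, 0), (11, 1), (12, 2), (13, 3), (15, 4), (22, 5)])
    (by decide +kernel) (by decide +kernel) (by decide +kernel) (by decide +kernel) (by decide +kernel) (by decide +kernel)

theorem rankQ_rep0 : rankQ (rep F 0) = 10 := by
  rw [rankQ, rep0_sub, ← spMat_posQ, spMat_mul (code_injective chevF4) exists_code _ _ (by decide +kernel),
    spMat_eq (l' := [(2, 4), (28, 5), (30, 6), (35, 8), (36, 9), (46, 19), (47, 20), (49, 25), (50, 27), (51, 3), (51, 4)]) (by decide +kernel)]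
  exact rank_of_cert (r := 10) (A := [(2, 0), (28, 1), (30, 2), (35, 3), (36, 4), (46, 5), (47, 6), (49, 7), (50, 8), (51, 0), (51, 9)])
    (B := [(0, 4), (1, 5), (2, 6), (3, 8), (4, 9), (5, 19), (6, 20), (7, 25), (8, 27), (9, 3)]) (A' := [(0, 2), (1, 28), (2, 30), (3, 35), (4, 36), (5, 46), (6, 47), (7, 49), (8, 50), (9, 2), (9, 51)]) (B' := [(4, 0), (5, 1), (6, 2), (8, 3), (9, 4), (19, 5), (20, 6), (25, 7), (27, 8), (3, 9)])
    (by decide +kernel) (by decide +kernel) (by decide +kernel) (by decide +kernel) (by decide +kernel) (by decide +kernel)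

theorem rep1_sub : ((rep F 1 : GL chevF4.Idx F) : Matrix chevF4.Idx chevF4.Idx F) - 1 =
    spMat F (code chevF4) (code chevF4) (oddPos 44) := by
  show chevF4.x F 44 1 - 1 = _
  rw [x_one_eq (by decide +kernel), add_sub_cancel_left]

theorem rankI_rep1 : rankI (rep F 1) = 10 := by
  rw [rankI, rep1_sub, ← spMat_posI, spMat_mul (code_injective chevF4) exists_code _ _ (by decide +kernel),
    spMat_eq (l' := [(1, 7), (37, 11), (38, 12), (39, 13), (40, 14), (41, 15), (42, 16), (43, 17), (44, 18), (48, 0), (48, 7)]) (by decide +kernel)]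
  exact rank_of_cert (r := 10) (A := [(1, 0), (37, 1), (38, 2), (39, 3), (40, 4), (41, 5), (42, 6), (43, 7), (44, 8), (48, 0), (48, 9)])
    (B := [(0, 7), (1, 11), (2, 12), (3, 13), (4, 14), (5, 15), (6, 16), (7, 17), (8, 18), (9, 0)]) (A' := [(0, 1), (1, 37), (2, 38), (3, 39), (4, 40), (5, 41), (6, 42), (7, 43), (8, 44), (9, 1), (9, 48)]) (B' := [(7, 0), (11, 1), (12, 2), (13, 3), (14, 4), (15, 5), (16, 6), (17, 7), (18, 8), (0, 9)])
    (by decide +kernel) (by decide +kernel) (by decide +kernel) (by decide +kernel) (by decide +kernel) (by decide +kernel)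

theorem rankQ_rep1 : rankQ (rep F 1) = 6 := by
  rw [rankQ, rep1_sub, ← spMat_posQ, spMat_mul (code_injective chevF4) exists_code _ _ (by decide +kernel),
    spMat_eq (l' := [(45, 4), (46, 5), (47, 6), (49, 8), (50, 9), (51, 10)]) (by decide +kernel)]
  exact rank_of_cert (r := 6) (A := [(45, 0), (46, 1), (47, 2), (49, 3), (50, 4), (51, 5)])
    (B := [(0, 4), (1, 5), (2, 6), (3, 8), (4, 9), (5, 10)]) (A' := [(0, 45), (1, 46), (2, 47), (3, 49), (4, 50), (5, 51)]) (B' := [(4, 0), (5, 1), (6, 2), (8, 3), (9, 4), (10, 5)])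
    (by decide +kernel) (by decide +kernel) (by decide +kernel) (by decide +kernel) (by decide +kernel) (by decide +kernel)

theorem rep2_sub : ((rep F 2 : GL chevF4.Idx F) : Matrix chevF4.Idx chevF4.Idx F) - 1 =
    spMat F (code chevF4) (code chevF4) (oddPos 47 ++ oddPos 44 ++ joinPos (oddPos 47) (oddPos 44)) := by
  show chevF4.x F 47 1 * chevF4.x F 44 1 - 1 = _
  rw [x_one_eq (by decide +kernel), x_one_eq (by decide +kernel), spMat_append, spMat_append,
    ← spMat_mul (code_injective chevF4) exists_code _ _ (by decide +kernel)]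
  noncomm_ring

theorem rankI_rep2 : rankI (rep F 2) = 10 := by
  rw [rankI, rep2_sub, ← spMat_posI, spMat_mul (code_injective chevF4) exists_code _ _ (by decide +kernel),
    spMat_eq (l' := [(1, 7), (33, 7), (37, 11), (38, 12), (39, 13), (40, 11), (40, 14), (41, 15), (42, 12), (42, 16), (43, 13), (43, 17), (44, 15), (44, 18), (48, 0), (48, 7), (48, 22)]) (by decide +kernel)]
  exact rank_of_cert (r := 10) (A := [(1, 0), (33, 0), (37, 1), (38, 2), (39, 3), (40, 1), (40, 4), (41, 5), (42, 2), (42, 6), (43, 3), (43, 7), (44, 5), (44, 8), (48, 0), (48, 9)])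
    (B := [(0, 7), (1, 11), (2, 12), (3, 13), (4, 14), (5, 15), (6, 16), (7, 17), (8, 18), (9, 0), (9, 22)]) (A' := [(0, 1), (1, 37), (2, 38), (3, 39), (4, 37), (4, 40), (5, 41), (6, 38), (6, 42), (7, 39), (7, 43), (8, 41), (8, 44), (9, 1), (9, 48)]) (B' := [(7, 0), (11, 1), (12, 2), (13, 3), (14, 4), (15, 5), (16, 6), (17, 7), (18, 8), (0, 9)])
    (by decide +kernel) (by decide +kernel) (by decide +kernel) (by decide +kernel) (by decide +kernel) (by decide +kernel)

theorem rankQ_rep2 : rankQ (rep F 2) = 10 := by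
  rw [rankQ, rep2_sub, ← spMat_posQ, spMat_mul (code_injective chevF4) exists_code _ _ (by decide +kernel),
    spMat_eq (l' := [(2, 4), (28, 5), (30, 6), (35, 8), (36, 9), (45, 4), (46, 5), (46, 19), (47, 6), (47, 20), (49, 8), (49, 25), (50, 9), (50, 27), (51, 3), (51, 4), (51, 10)]) (by decide +kernel)]
  exact rank_of_cert (r := 10) (A := [(2, 0), (28, 1), (30, 2), (35, 3), (36, 4), (45, 0), (46, 1), (46, 5), (47, 2), (47, 6), (49, 3), (49, 7), (50, 4), (50, 8), (51, 0), (51, 9)])
    (B := [(0, 4), (1, 5), (2, 6), (3, 8), (4, 9), (5, 19), (6, 20), (7, 25), (8, 27), (9, 3), (9, 10)]) (A' := [(0, 2), (1, 28), (2, 30), (3, 35), (4, 36), (5, 28), (5, 46), (6, 30), (6, 47), (7, 35), (7, 49), (8, 36), (8, 50), (9, 2), (9, 51)]) (B' := [(4, 0), (5, 1), (6, 2), (8, 3), (9, 4), (19, 5), (20, 6), (25, 7), (27, 8), (3, 9)])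
    (by decide +kernel) (by decide +kernel) (by decide +kernel) (by decide +kernel) (by decide +kernel) (by decide +kernel)

theorem rep3_sub : ((rep F 3 : GL chevF4.Idx F) : Matrix chevF4.Idx chevF4.Idx F) - 1 =
    spMat F (code chevF4) (code chevF4) (oddPos 39 ++ oddPos 45 ++ joinPos (oddPos 39) (oddPos 45)) := by
  show chevF4.x F 39 1 * chevF4.x F 45 1 - 1 = _
  rw [x_one_eq (by decide +kernel), x_one_eq (by decide +kernel), spMat_append, spMat_append,
    ← spMat_mul (code_injective chevF4) exists_code _ _ (by decide +kernel)]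
  noncomm_ring

theorem rankI_rep3 : rankI (rep F 3) = 12 := by
  rw [rankI, rep3_sub, ← spMat_posI, spMat_mul (code_injective chevF4) exists_code _ _ (by decide +kernel),
    spMat_eq (l' := [(0, 12), (17, 7), (24, 11), (31, 7), (32, 15), (33, 16), (38, 11), (39, 22), (40, 23), (41, 13), (42, 14), (43, 1), (43, 12), (44, 7), (44, 17), (44, 31), (48, 11), (48, 24), (48, 38)]) (by decide +kernel)]
  exact rank_of_cert (r := 12) (A := [(0, 0), (17, 1), (24, 2), (31, 1), (32, 3), (33, 4), (38, 2), (39, 5), (40, 6), (41, 7), (42, 8), (43, 0), (43, 9), (44, 1), (44, 10), (48, 2), (48, 11)])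
    (B := [(0, 12), (1, 7), (2, 11), (3, 15), (4, 16), (5, 22), (6, 23), (7, 13), (8, 14), (9, 1), (10, 17), (10, 31), (11, 24), (11, 38)]) (A' := [(0, 0), (1, 17), (2, 24), (3, 32), (4, 33), (5, 39), (6, 40), (7, 41), (8, 42), (9, 0), (9, 43), (10, 17), (10, 44), (11, 24), (11, 48)]) (B' := [(12, 0), (7, 1), (11, 2), (15, 3), (16, 4), (22, 5), (23, 6), (13, 7), (14, 8), (1, 9), (17, 10), (24, 11)])
    (by decide +kernel) (by decide +kernel) (by decide +kernel) (by decide +kernel) (by decide +kernel) (by decide +kernel)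

theorem rankQ_rep3 : rankQ (rep F 3) = 12 := by
  rw [rankQ, rep3_sub, ← spMat_posQ, spMat_mul (code_injective chevF4) exists_code _ _ (by decide +kernel),
    spMat_eq (l' := [(3, 6), (25, 4), (26, 5), (29, 4), (30, 5), (34, 9), (35, 10), (36, 8), (45, 20), (46, 21), (47, 19), (49, 2), (49, 6), (50, 4), (50, 25), (50, 29), (51, 5), (51, 26), (51, 30)]) (by decide +kernel)]
  exact rank_of_cert (r := 12) (A := [(3, 0), (25, 1), (26, 2), (29, 1), (30, 2), (34, 3), (35, 4), (36, 5), (45, 6), (46, 7), (47, 8), (49, 0), (49, 9), (50, 1), (50, 10), (51, 2), (51, 11)])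
    (B := [(0, 6), (1, 4), (2, 5), (3, 9), (4, 10), (5, 8), (6, 20), (7, 21), (8, 19), (9, 2), (10, 25), (10, 29), (11, 26), (11, 30)]) (A' := [(0, 3), (1, 25), (2, 26), (3, 34), (4, 35), (5, 36), (6, 45), (7, 46), (8, 47), (9, 3), (9, 49), (10, 25), (10, 50), (11, 26), (11, 51)]) (B' := [(6, 0), (4, 1), (5, 2), (9, 3), (10, 4), (8, 5), (20, 6), (21, 7), (19, 8), (2, 9), (25, 10), (26, 11)])
    (by decide +kernel) (by decide +kernel) (by decide +kernel) (by decide +kernel) (by decide +kernel) (by decide +kernel)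

theorem rep_injective_rank {i j : Fin 4} (hI : rankI (rep F i) = rankI (rep F j))
    (hQ : rankQ (rep F i) = rankQ (rep F j)) : i = j := by
  fin_cases i <;> fin_cases j <;>
    first
    | rfl
    | simp [rankI_rep0, rankI_rep1, rankI_rep2, rankI_rep3, rankQ_rep0, rankQ_rep1, rankQ_rep2, rankQ_rep3] at hI hQ

end CfsgLib.F4Invol
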