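import Cfsg.Agent.Lib.F4Invol.Check0
import Cfsg.Agent.Lib.F4Invol.Check1
import Cfsg.Agent.Lib.F4Invol.Check2
import Cfsg.Agent.Lib.F4Invol.Check3
import Cfsg.Agent.Lib.F4Invol.Reps
import Cfsg.Agent.Lib.KnownSimple.ChevPSylow

/-!
The four classes of involutions of F4 over a finite field of characteristic two.
-/

set_option autoImplicit false
set_option linter.unusedSectionVars false

namespace CfsgLib.F4Invol

open Cfsg.Lie CfsgLib.ChevStr
open scoped MatrixGroups

theorem f4_check : ∀ k < f4Nodes.length, tabF4.nodeB chevF4 f4Reps f4Nodes k = true := by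
  intro k hk
  rw [length_f4Nodes] at hk
  have h := fun (lo len : ℕ) (hc : ((List.range' lo len).all fun k => tabF4.nodeB chevF4 f4Reps f4Nodes k) = true)
    (h1 : lo ≤ k) (h2 : k < lo + len) => List.all_eq_true.1 hc k (List.mem_range'_1.2 ⟨h1, h2⟩)
  rcases lt_or_ge k 129 with h0 | h0
  · exact h 0 129 f4Check0 (Nat.zero_le _) (by omega)
  rcases lt_or_ge k 259 with h1 | h1
  · exact h 129 130 f4Check1 h0 (by omega)
  rcases lt_or_ge k 388 with h2 | h2
  · exact h 259 129 f4Check2 h1 (by omega)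
  · exact h 388 130 f4Check3 h2 (by omega)

variable (F : Type*) [Field F] [CharP F 2]

theorem bits_rep (P : ℕ) (h : P < 2 ^ 48) {L : List ℕ}
    (hL : ((List.range 48).filter fun r => P.testBit r) = L) : bset P = {r | r ∈ L} := by
  ext r
  subst hL
  simp only [mem_bset, Set.mem_ofPred_eq, List.mem_filter, List.mem_range, iff_and_self]
  intro hr
  by_contra hc
  rw [Nat.testBit_eq_false_of_lt (lt_of_lt_of_le h (Nat.pow_le_pow_right (by norm_num) (by omega)))] at hr
  exact Bool.false_ne_true hr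

/-- The characters of the torus at the four roots of the representatives. -/
theorem char_facts :
    [47, 44, 39, 45].map (fun r => (List.range 4).map fun i => chevF4.cartan i r) =
      [[0, 0, 0, 1], [1, 0, 0, 0], [0, -1, 1, 0], [0, 2, -1, 0]] := by decide +kernel

theorem exists_char (x y z u : Fˣ) : ∃ c : Fin chevF4.rank → Fˣ,
    (coreF4 F).R.torusChar c ((coreF4 F).R.α 47) = u ∧
    (coreF4 F).R.torusChar c ((coreF4 F).R.α 44) = x ∧
    (coreF4 F).R.torusChar c ((coreF4 F).R.α 39) = y⁻¹ * z ∧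
    (coreF4 F).R.torusChar c ((coreF4 F).R.α 45) = y * y * z⁻¹ := by
  have h := char_facts
  simp only [List.map_cons, List.map_nil, List.range_succ, List.range_zero, List.nil_append,
    List.cons_append, List.cons.injEq, and_true] at h
  obtain ⟨⟨a0, a1, a2, a3⟩, ⟨b0, b1, b2, b3⟩, ⟨c0, c1, c2, c3⟩, d0, d1, d2, d3⟩ := h
  have hr : chevF4.rank = 4 := rfl
  let c : Fin chevF4.rank → Fˣ := fun k => [x, y, z, u].getD k.val 1
  have hp : ∀ r, r < chevF4.nroots → (coreF4 F).R.torusChar c ((coreF4 F).R.α r) =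
      x ^ chevF4.cartan 0 r * y ^ chevF4.cartan 1 r * z ^ chevF4.cartan 2 r * u ^ chevF4.cartan 3 r := by
    intro r hr
    rw [(coreF4 F).R.torusChar_root c hr]
    exact Fin.prod_univ_four (fun k : Fin 4 => [x, y, z, u].getD k.val 1 ^ chevF4.cartan k.val r)
  refine ⟨c, ?_, ?_, ?_, ?_⟩ <;> rw [hp _ (by decide +kernel)]
  · simp [a0, a1, a2, a3]
  · simp [b0, b1, b2, b3]
  · simp [c0, c1, c2, c3]
  · simp [d0, d1, d2, d3, pow_two, mul_assoc]

theorem rep_mem (i : Fin 4) : rep F i ∈ chevF4.group F := by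
  have h : ∀ r t, (coreF4 F).xGL r t ∈ chevF4.group F := (coreF4 F).xGL_mem_group
  fin_cases i
  · exact h _ _
  · exact h _ _
  · exact mul_mem (h _ _) (h _ _)
  · exact mul_mem (h _ _) (h _ _)

/-- The final states of the descent. -/
theorem good_reps : ∀ j < f4Reps.length,
    Good (coreF4 F) (Set.range (rep F)) (bset (f4Reps.getD j 0)) (bset (f4Reps.getD j 0)) := by
  have hone : ∀ (a : ℕ) (i : Fin 4), a < chevF4.nroots → rep F i = (coreF4 F).xGL a 1 →
      (∀ A : Fˣ, ∃ c, (coreF4 F).R.torusChar c ((coreF4 F).R.α a) = A) →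
      ∀ P : ℕ, bset P = {r | r ∈ [a]} → Good (coreF4 F) (Set.range (rep F)) (bset P) (bset P) := by
    intro a i ha hi hc P hP
    refine good_one (coreF4 F) (by rw [hP]; ext x; simp) ha ⟨i, hi⟩ hc
  have htwo : ∀ (a b : ℕ) (i : Fin 4), a ≠ b → a < chevF4.nroots → b < chevF4.nroots →
      rep F i = (coreF4 F).xGL a 1 * (coreF4 F).xGL b 1 →
      (∀ A B : Fˣ, ∃ c, (coreF4 F).R.torusChar c ((coreF4 F).R.α a) = A ∧
        (coreF4 F).R.torusChar c ((coreF4 F).R.α b) = B) →
      b ≠ chevF4.neg a → oddTerms chevF4 a b = [] →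
      ∀ P : ℕ, (∀ r, r ∈ bset P ↔ r = a ∨ r = b) → Good (coreF4 F) (Set.range (rep F)) (bset P) (bset P) := by
    intro a b i hab ha hb hi hc hneg hodd P hP
    have hset : bset P = {a, b} := by ext x; simp [hP x]
    refine good_two (coreF4 F) hset hab ha hb ((hP a).2 (Or.inl rfl)) ((hP b).2 (Or.inr rfl)) ?_ ⟨i, hi⟩ hc
    intro s hs
    obtain rfl : s = b := ((hP s).1 hs.1).resolve_left hs.2
    exact ⟨hb, hneg, fun _ c hc => by rw [hodd] at hc; exact absurd hc List.not_mem_nil⟩
  intro j hj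
  have hlen : f4Reps.length = 4 := rfl
  rw [hlen] at hj
  interval_cases j
  · refine hone 47 0 (by decide +kernel) rfl (fun A => ?_) _ (bits_rep _ (by decide +kernel) (by decide +kernel))
    obtain ⟨c, h, -⟩ := exists_char F 1 1 1 A
    exact ⟨c, h⟩
  · refine hone 44 1 (by decide +kernel) rfl (fun A => ?_) _ (bits_rep _ (by decide +kernel) (by decide +kernel))
    obtain ⟨c, -, h, -⟩ := exists_char F A 1 1 1
    exact ⟨c, h⟩
  · refine htwo 47 44 2 (by norm_num) (by decide +kernel) (by decide +kernel) rfl (fun A B => ?_)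
      (by decide +kernel) (by decide +kernel) _ (fun r => ?_)
    · obtain ⟨c, h1, h2, -⟩ := exists_char F B 1 1 A
      exact ⟨c, h1, h2⟩
    · rw [bits_rep _ (by decide +kernel) (L := [44, 47]) (by decide +kernel)]
      simp [or_comm]
  · refine htwo 39 45 3 (by norm_num) (by decide +kernel) (by decide +kernel) rfl (fun A B => ?_)
      (by decide +kernel) (by decide +kernel) _ (fun r => ?_)
    · obtain ⟨c, -, -, h1, h2⟩ := exists_char F 1 (A * B) (A * A * B) 1
      refine ⟨c, h1.trans ?_, h2.trans ?_⟩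
      · rw [show A * A * B = A * B * A by ac_rfl, inv_mul_cancel_left]
      · rw [show A * B * (A * B) = B * (A * A * B) by ac_rfl, mul_inv_cancel_right]
    · rw [bits_rep _ (by decide +kernel) (L := [39, 45]) (by decide +kernel)]
      simp

variable [Fintype F]

theorem exists_conj_rep {g : GL chevF4.Idx F} (hg : g ∈ chevF4.group F) (hne : g ≠ 1) (hsq : g * g = 1) :
    ∃ i : Fin 4, ∃ h ∈ chevF4.group F, h * g * h⁻¹ = rep F i := by
  set C := coreF4 F
  have hgood := good_of_check C tablesOK_F4 f4_check (good_reps F) 0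
    (by rw [length_f4Nodes]; norm_num)
  have h0 : (f4Nodes.getD 0 (0, 0, Step.empty)).1 = tabF4.pos ∧
      (f4Nodes.getD 0 (0, 0, Step.empty)).2.1 = 0 := by decide +kernel
  rw [h0.1, h0.2] at hgood
  have hp : IsPGroup 2 (Subgroup.zpowers g) := by
    refine IsPGroup.of_card (n := 1) ?_
    rw [Nat.card_zpowers, pow_one, orderOf_eq_prime (by rwa [pow_two]) hne]
  obtain ⟨x, hx, hxU⟩ := KnownSimple.ChevPSylow.exists_conj_le_posUnipotent C 2
    (Subgroup.zpowers_le.2 hg) hp
  have hU := hxU g (Subgroup.mem_zpowers g)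
  rw [C.posUnipotent_eq] at hU
  have hpos : {r | chevF4.IsPosRoot r} ⊆ bset tabF4.pos := by
    have h : ∀ r : Fin chevF4.nroots, chevF4.IsPosRoot r.val → tabF4.pos.testBit r.val = true := by
      decide +kernel
    exact fun r hr => h ⟨r, hr.1⟩ hr
  obtain ⟨h, hh, i, hi⟩ := hgood.conj C hg (inv_mem hx) hne hsq
    (by simpa using C.Ucl_mono hpos hU) (by intro n hn; simp [mem_bset] at hn)
  exact ⟨i, h, hh, hi.symm⟩

theorem rep_orderOf (i : Fin 4) : orderOf (rep F i) = 2 := by
  set C := coreF4 F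
  have hc : ∀ a b : ℕ, a < chevF4.nroots → b < chevF4.nroots → b ≠ a → b ≠ chevF4.neg a →
      oddTerms chevF4 a b = [] → C.xGL b 1 * C.xGL a 1 = C.xGL a 1 * C.xGL b 1 := by
    intro a b ha hb h1 h2 h3
    rw [C.xGL_comm ha hb h1 h2 1 1, commWord_eq C, h3, List.map_nil, C.wordGL_nil, mul_one]
  have hs : ∀ a, C.xGL a (1 : F) * C.xGL a 1 = 1 := fun a => by
    rw [← C.xGL_add, CharTwo.add_self_eq_zero, C.xGL_zero]
  have hne : rep F i ≠ 1 := by
    intro e
    have h : rankI (rep F i) = 0 := by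
      rw [rankI, e, Units.val_one, sub_self, zero_mul, Matrix.rank_zero]
    fin_cases i <;> simp [rankI_rep0, rankI_rep1, rankI_rep2, rankI_rep3] at h
  refine orderOf_eq_prime ?_ hne
  rw [pow_two]
  fin_cases i
  · exact hs 47
  · exact hs 44
  · show C.xGL 47 1 * C.xGL 44 1 * (C.xGL 47 1 * C.xGL 44 1) = 1
    rw [mul_assoc (C.xGL 47 (1 : F)), ← mul_assoc (C.xGL 44 (1 : F)),
      hc 47 44 (by decide +kernel) (by decide +kernel) (by norm_num) (by decide +kernel) (by decide +kernel),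
      mul_assoc (C.xGL 47 (1 : F)), hs, mul_one, hs]
  · show C.xGL 39 1 * C.xGL 45 1 * (C.xGL 39 1 * C.xGL 45 1) = 1
    rw [mul_assoc (C.xGL 39 (1 : F)), ← mul_assoc (C.xGL 45 (1 : F)),
      hc 39 45 (by decide +kernel) (by decide +kernel) (by norm_num) (by decide +kernel) (by decide +kernel),
      mul_assoc (C.xGL 39 (1 : F)), hs, mul_one, hs]

theorem rep_conj_eq {i j : Fin 4} {h : GL chevF4.Idx F} (hh : h ∈ chevF4.group F)
    (he : h * rep F i * h⁻¹ = rep F j) : i = j :=
  rep_injective_rank F (rank_conj hh he).1 (rank_conj hh he).2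

theorem mem_reps_iff (y : GL chevF4.Idx F) :
    (y : Matrix chevF4.Idx chevF4.Idx F) ∈ [chevF4.x F 47 1, chevF4.x F 44 1,
      chevF4.x F 47 1 * chevF4.x F 44 1, chevF4.x F 39 1 * chevF4.x F 45 1] ↔ ∃ i, y = rep F i := by
  simp only [List.mem_cons, List.not_mem_nil, or_false]
  constructor
  · rintro (h | h | h | h)
    exacts [⟨0, Units.ext h⟩, ⟨1, Units.ext h⟩, ⟨2, Units.ext h⟩, ⟨3, Units.ext h⟩]
  · rintro ⟨i, rfl⟩
    fin_cases i
    exacts [Or.inl rfl, Or.inr (Or.inl rfl), Or.inr (Or.inr (Or.inl rfl)), Or.inr (Or.inr (Or.inr rfl))]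

end CfsgLib.F4Invol
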