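import Cfsg.Agent.Lib.F4Invol.Uni

/-!
Descent steps for the conjugacy of involutions inside root subgroups in characteristic two:
case split on a coordinate, killing a coordinate by conjugation, and the square of the element.
-/

set_option autoImplicit false
set_option linter.unusedSectionVars false

namespace CfsgLib.F4Invol

open Cfsg.Lie CfsgLib.ChevStr
open scoped MatrixGroups

variable {D : ChevalleyDatum} {F : Type*} [Field F] [CharP F 2] (C : ChevCore D F)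

/-- Every involution of `U_P` outside the `U_{P - n}`, `n ∈ M`, is conjugate into `T`. -/
def Good (T : Set (GL D.Idx F)) (P M : Set ℕ) : Prop :=
  ∀ g ∈ D.group F, g ≠ 1 → g * g = 1 → g ∈ C.Ucl P → (∀ n ∈ M, g ∉ C.Ucl (P \ {n})) →
    ∃ h ∈ D.group F, h * g * h⁻¹ ∈ T

variable {T : Set (GL D.Idx F)}

theorem Good.conj {P M : Set ℕ} (h : Good C T P M) {g x : GL D.Idx F} (hg : g ∈ D.group F)
    (hx : x ∈ D.group F) (h1 : g ≠ 1) (h2 : g * g = 1) (hP : x * g * x⁻¹ ∈ C.Ucl P)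
    (hM : ∀ n ∈ M, x * g * x⁻¹ ∉ C.Ucl (P \ {n})) : ∃ h ∈ D.group F, h * g * h⁻¹ ∈ T := by
  obtain ⟨y, hy, hy'⟩ := h (x * g * x⁻¹) (mul_mem (mul_mem hx hg) (inv_mem hx))
    (fun e => h1 (conj_eq_one_iff.1 e))
    (by rw [show x * g * x⁻¹ * (x * g * x⁻¹) = x * (g * g) * x⁻¹ by group, h2, mul_one, mul_inv_cancel])
    hP hM
  exact ⟨y * x, mul_mem hy hx, by simpa [mul_assoc] using hy'⟩

theorem good_empty {P M : Set ℕ} (hP : P = ∅) : Good C T P M := by
  intro g _ h1 _ hg _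
  have : C.Ucl P ≤ ⊥ := C.Ucl_le fun r hr => by simp [hP] at hr
  exact absurd (this hg) h1

/-- Case split on one coordinate. -/
theorem good_branch {P M M' : Set ℕ} {r : ℕ} (hM' : M' ⊆ insert r M) {M₀ : Set ℕ} (hM₀ : M₀ ⊆ M)
    (h0 : Good C T (P \ {r}) M₀) (h1 : Good C T P M') : Good C T P M := by
  intro g hG hne hsq hg hM
  by_cases hr : g ∈ C.Ucl (P \ {r})
  · exact h0 g hG hne hsq hr fun n hn hmem =>
      hM n (hM₀ hn) (C.Ucl_mono (by intro x hx; exact ⟨hx.1.1, hx.2⟩) hmem)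
  · refine h1 g hG hne hsq hg fun n hn => ?_
    rcases hM' hn with rfl | h
    · exact hr
    · exact hM n h

/-- The coordinate at `t` modulo the subgroup of `Q`. -/
def Coord (t : ℕ) (Q : Set ℕ) (g : GL D.Idx F) (c : F) : Prop := (C.xGL t c)⁻¹ * g ∈ C.Ucl Q

theorem coord_mul {t : ℕ} {Q : Set ℕ} (htn : t < D.nroots) (htQ : OddStep D t Q) {g h : GL D.Idx F}
    {a b : F} (hg : Coord C t Q g a) (hh : Coord C t Q h b) : Coord C t Q (g * h) (a + b) := by
  unfold Coord at *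
  have : (C.xGL t (a + b))⁻¹ * (g * h) =
      ((C.xGL t b)⁻¹ * ((C.xGL t a)⁻¹ * g) * C.xGL t b) * ((C.xGL t b)⁻¹ * h) := by
    rw [C.xGL_add]; group
  rw [this]
  exact mul_mem (conj_mem C htn htQ b _ hg) hh

theorem coord_of_mem {t : ℕ} {Q : Set ℕ} {g : GL D.Idx F} (hg : g ∈ C.Ucl Q) : Coord C t Q g 0 := by
  simpa [Coord, C.xGL_zero] using hg

theorem coord_self {t : ℕ} {Q : Set ℕ} (c : F) : Coord C t Q (C.xGL t c) c := by
  simp [Coord]

/-- The coordinate of a word. -/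
theorem coord_word {t : ℕ} {Q : Set ℕ} (htn : t < D.nroots) (htQ : OddStep D t Q) :
    ∀ l : List (ℕ × F), (∀ p ∈ l, p.1 = t ∨ p.1 ∈ Q) →
      Coord C t Q (C.wordGL l) ((l.filter fun p => decide (p.1 = t)).map Prod.snd).sum := by
  intro l
  induction l with
  | nil => intro _; simpa [C.wordGL_nil] using coord_of_mem C (one_mem (C.Ucl Q))
  | cons p l ih =>
    intro h
    have ih' := ih fun q hq => h q (List.mem_cons_of_mem _ hq)
    rw [C.wordGL_cons]
    by_cases hp : p.1 = t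
    · rw [List.filter_cons_of_pos (by simp [hp]), List.map_cons, List.sum_cons]
      have := coord_mul C htn htQ (coord_self C (Q := Q) p.2) ih'
      rwa [hp]
    · rw [List.filter_cons_of_neg (by simp [hp]), ← zero_add (List.sum _)]
      exact coord_mul C htn htQ (coord_of_mem C (C.xGL_mem_Ucl ((h p (List.mem_cons_self ..)).resolve_left hp) _)) ih'

theorem exists_pow_eq [Finite F] {i : ℕ} (hi : i = 1 ∨ i = 2) (b : F) : ∃ c : F, c ^ i = b := by
  rcases hi with rfl | rfl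
  · exact ⟨b, pow_one b⟩
  · obtain ⟨c, hc⟩ := FiniteField.isSquare_of_char_two (ringChar.eq F 2) b
    exact ⟨c, by rw [hc, pow_two]⟩

/-- Killing the coordinate `t` by conjugation with `x_s`, using the nonzero coordinate `r`. -/
theorem good_kill [Finite F] {P P2 M M2 : Set ℕ} {s r t : ℕ} {c₀ : ℕ × ℤ × ℕ × ℕ}
    (hs : s < D.nroots) (hPP : P ⊆ P2) (hc2 : Closed2 D P2) (hsP : OddStep D s P2)
    (hnorm : ∀ u ∈ P2, OddStep D u (P2 \ {t}))
    (ht : t ∈ P2) (hr : r ∈ P) (hrM : r ∈ M) (hrt : r ≠ t) (hrs : r ≠ s)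
    (hsplit : OddStep D r (P \ {r}))
    (hA : ∀ u ∈ P2 \ {r}, u ≠ s → ∀ c ∈ oddTerms D s u, c.1 ≠ t)
    (hterm : ((oddTerms D s r).filter fun c => decide (c.1 = t)) = [c₀])
    (hi : c₀.2.2.1 = 1 ∨ c₀.2.2.1 = 2)
    (hM2 : ∀ n ∈ M2, n ∈ M ∧ n ∈ P ∧ n ≠ t ∧ Closed2 D (P2 \ {n}) ∧ OddStep D s (P2 \ {n}) ∧
      OddStep D n (P \ {n}))
    (child : Good C T (P2 \ {t}) M2) : Good C T P M := by
  intro g hG hne hsq hg hM
  set Q := P2 \ {t} with hQdef
  have htpos := hc2.pos t ht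
  have htQ : OddStep D t Q := hnorm t ht
  have hrn := (hc2.pos r (hPP hr)).1
  obtain ⟨hrn', hrneg, hrterms⟩ := hsP r (hPP hr)
  -- coordinates of `g`
  obtain ⟨a, v, hv, hgv⟩ := exists_split C hrn hsplit hg
  have ha : a ≠ 0 := fun e => hM r hrM (by rw [hgv, e, C.xGL_zero, one_mul]; exact hv)
  obtain ⟨δ, w, hw, hgw⟩ := exists_split C htpos.1 htQ (C.Ucl_mono hPP hg)
  have hgδ : Coord C t Q g δ := by rw [Coord, hgw, inv_mul_cancel_left]; exact hw
  obtain ⟨c, hc⟩ := exists_pow_eq (F := F) hi (δ / a ^ c₀.2.2.2)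
  set φ : GL D.Idx F →* GL D.Idx F := (MulAut.conj (C.xGL s c)⁻¹).toMonoidHom with hφdef
  have hφ : ∀ x, φ x = (C.xGL s c)⁻¹ * x * C.xGL s c := fun x => by simp [φ]
  have hN : C.Ucl P2 ≤ Subgroup.normalizer (C.Ucl Q : Set (GL D.Idx F)) :=
    Ucl_le_normalizer C fun u hu => ⟨(hc2.pos u hu).1, hnorm u hu⟩
  -- `φ` is trivial modulo `Q` away from `r`
  have hfix : ∀ x ∈ C.Ucl (P2 \ {r}), x⁻¹ * φ x ∈ C.Ucl Q := by
    intro x hx
    suffices h : x ∈ C.Ucl P2 ∧ x⁻¹ * φ x ∈ C.Ucl Q from h.2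
    refine Subgroup.closure_induction (p := fun x _ => x ∈ C.Ucl P2 ∧ x⁻¹ * φ x ∈ C.Ucl Q) ?_ ?_ ?_ ?_ hx
    · rintro _ ⟨u, hu, e, rfl⟩
      refine ⟨C.xGL_mem_Ucl hu.1 e, ?_⟩
      obtain ⟨hun, huneg, huterms⟩ := hsP u hu.1
      rw [hφ]
      by_cases hus : u = s
      · subst hus
        rw [mul_assoc ((C.xGL u c)⁻¹), ← C.xGL_add, add_comm e c, C.xGL_add, inv_mul_cancel_left,
          inv_mul_cancel]
        exact one_mem _
      · rw [xGL_conj_xGL C hs hun hus huneg, inv_mul_cancel_left]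
        exact commWord_mem C (S := Q) (fun d hd => ⟨huterms hus d hd, hA u hu hus d hd⟩) _ _
    · exact ⟨one_mem _, by simp⟩
    · rintro x y - - ⟨hx1, hx2⟩ ⟨hy1, hy2⟩
      refine ⟨mul_mem hx1 hy1, ?_⟩
      rw [map_mul, show (x * y)⁻¹ * (φ x * φ y) = (y⁻¹ * (x⁻¹ * φ x) * y) * (y⁻¹ * φ y) by group]
      exact mul_mem (by simpa using (Subgroup.mem_normalizer_iff.1 (hN (inv_mem hy1)) _).1 hx2) hy2
    · rintro x - ⟨hx1, hx2⟩
      refine ⟨inv_mem hx1, ?_⟩
      rw [map_inv, show x⁻¹⁻¹ * (φ x)⁻¹ = x * (x⁻¹ * φ x)⁻¹ * x⁻¹ by group]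
      exact (Subgroup.mem_normalizer_iff.1 (hN hx1) _).1 (inv_mem hx2)
  -- the image has coordinate `0`
  have hword : Coord C t Q (C.wordGL (D.commWord F s r c a)) δ := by
    rw [commWord_eq C]
    have h := coord_word C htpos.1 htQ ((oddTerms D s r).map fun d => (d.1, c ^ d.2.2.1 * a ^ d.2.2.2))
      (by
        intro p hp
        obtain ⟨d, hd, rfl⟩ := List.mem_map.1 hp
        by_cases hdt : d.1 = t
        · exact Or.inl hdt
        · exact Or.inr ⟨hrterms hrs d hd, hdt⟩)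
    rw [List.filter_map] at h
    simp only [Function.comp_def] at h
    rw [hterm] at h
    simp only [List.map_cons, List.map_nil, List.sum_cons, List.sum_nil, add_zero, hc] at h
    rwa [div_mul_cancel₀ _ (pow_ne_zero _ ha)] at h
  have hφg : φ g ∈ C.Ucl Q := by
    have h1 : φ g = C.xGL r a * C.wordGL (D.commWord F s r c a) * v * (v⁻¹ * φ v) := by
      rw [mul_assoc _ v, mul_inv_cancel_left, hgv, map_mul]
      congr 1
      rw [hφ, xGL_conj_xGL C hs hrn hrs hrneg]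
    have hr0 : Coord C t Q (C.xGL r a) 0 := coord_of_mem C (C.xGL_mem_Ucl (show r ∈ Q from ⟨hPP hr, hrt⟩) a)
    have hvδ : Coord C t Q v δ := by
      have := coord_mul C htpos.1 htQ (coord_of_mem C (inv_mem (C.xGL_mem_Ucl (show r ∈ Q from ⟨hPP hr, hrt⟩) a))) hgδ
      rwa [hgv, inv_mul_cancel_left, zero_add] at this
    have h2 := coord_mul C htpos.1 htQ (coord_mul C htpos.1 htQ (coord_mul C htpos.1 htQ hr0 hword) hvδ)
      (coord_of_mem C (hfix v (C.Ucl_mono (fun x hx => by exact ⟨hPP hx.1, hx.2⟩) hv)))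
    rw [← h1, zero_add, CharTwo.add_self_eq_zero, add_zero] at h2
    simpa [Coord, C.xGL_zero] using h2
  refine child.conj C hG (x := (C.xGL s c)⁻¹) (inv_mem (C.xGL_mem_group s c)) hne hsq (by simpa [hφ] using hφg) ?_
  intro n hn hmem
  obtain ⟨hnM, hnP, hnt, hcn, hsn, hnsplit⟩ := hM2 n hn
  rw [inv_inv] at hmem
  have h1 : (C.xGL s c)⁻¹ * g * C.xGL s c ∈ C.Ucl (P2 \ {n}) :=
    C.Ucl_mono (by intro x hx; exact ⟨hx.1.1, hx.2⟩) hmem
  have h2 := conj_mem C hs hsn c _ h1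
  have h3 : (C.xGL s c)⁻¹ * ((C.xGL s c)⁻¹ * g * C.xGL s c) * C.xGL s c = g := by
    rw [xGL_self_inv C]
    rw [show C.xGL s c * (C.xGL s c * g * C.xGL s c) * C.xGL s c = (C.xGL s c * C.xGL s c) * g * (C.xGL s c * C.xGL s c) by group,
      ← C.xGL_add, CharTwo.add_self_eq_zero, C.xGL_zero, one_mul, mul_one]
  rw [h3] at h2
  obtain ⟨e, z, hz, hgz⟩ := exists_split C (hc2.pos n (hPP hnP)).1 hnsplit hg
  have hz' : z ∈ C.Ucl (P2 \ {n}) := C.Ucl_mono (fun x hx => by exact ⟨hPP hx.1, hx.2⟩) hz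
  have he : C.xGL n e ∈ C.Ucl (P2 \ {n}) := by
    have := mul_mem h2 (inv_mem hz')
    rwa [hgz, mul_inv_cancel_right] at this
  have he0 := indep C hcn (hc2.pos n (hPP hnP)) (fun h => h.2 rfl) he
  exact hM n hnM (by rw [hgz, he0, C.xGL_zero, one_mul]; exact hz)

/-- Two nonzero coordinates whose commutator survives contradict `g * g = 1`. -/
theorem good_contra {P M : Set ℕ} {a b t : ℕ} {c₀ : ℕ × ℤ × ℕ × ℕ}
    (hP : Closed2 D P) (ha : a ∈ P) (hb : b ∈ P) (ht : t ∈ P) (haM : a ∈ M) (hbM : b ∈ M)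
    (hab : a ≠ b) (hat : a ≠ t) (hbt : b ≠ t) (hQ : Closed2 D (((P \ {a}) \ {b}) \ {t}))
    (hnorm : ∀ u ∈ P, OddStep D u (((P \ {a}) \ {b}) \ {t}))
    (hsa : OddStep D a (P \ {a})) (hsb : OddStep D b ((P \ {a}) \ {b}))
    (hta : ∀ c ∈ oddTerms D a t, c.1 ∈ ((P \ {a}) \ {b}) \ {t})
    (htb : ∀ c ∈ oddTerms D b t, c.1 ∈ ((P \ {a}) \ {b}) \ {t})
    (hter : ∀ c ∈ oddTerms D a b, c.1 = t ∨ c.1 ∈ ((P \ {a}) \ {b}) \ {t})
    (hterm : ((oddTerms D a b).filter fun c => decide (c.1 = t)) = [c₀])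
    (hij : c₀.2.2.1 = 1 ∧ c₀.2.2.2 = 1) : Good C T P M := by
  intro g _ _ hsq hg hM
  exfalso
  set Q := ((P \ {a}) \ {b}) \ {t} with hQdef
  have han := (hP.pos a ha).1
  have hbn := (hP.pos b hb).1
  have htn := (hP.pos t ht).1
  have htQ : OddStep D t Q := hnorm t ht
  obtain ⟨α, v, hv, hgv⟩ := exists_split C han hsa hg
  obtain ⟨β, w, hw, hvw⟩ := exists_split C hbn hsb hv
  obtain ⟨γ, z, hz, hwz⟩ := exists_split C htn htQ hw
  have hgw : g = C.xGL a α * C.xGL b β * C.xGL t γ * z := by rw [hgv, hvw, hwz]; group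
  have hα : α ≠ 0 := fun e => hM a haM (by rw [hgv, e, C.xGL_zero, one_mul]; exact hv)
  have hβ : β ≠ 0 := by
    intro e
    refine hM b hbM ?_
    rw [hgv, hvw, e, C.xGL_zero, one_mul]
    exact mul_mem (C.xGL_mem_Ucl (show a ∈ P \ {b} from ⟨ha, hab⟩) α)
      (C.Ucl_mono (fun x hx => by exact ⟨hx.1.1, hx.2⟩) hw)
  set N := Subgroup.normalizer (C.Ucl Q : Set (GL D.Idx F))
  let X : N := ⟨C.xGL a α, mem_normalizer C han (hnorm a ha) α⟩
  let Y : N := ⟨C.xGL b β, mem_normalizer C hbn (hnorm b hb) β⟩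
  let W : N := ⟨C.xGL t γ, mem_normalizer C htn htQ γ⟩
  let W' : N := ⟨C.xGL t (α * β), mem_normalizer C htn htQ _⟩
  let Z : N := ⟨z, Subgroup.le_normalizer hz⟩
  let π : N →* N ⧸ (C.Ucl Q).subgroupOf N := QuotientGroup.mk' _
  have hker : ∀ x y : N, (x : GL D.Idx F)⁻¹ * y ∈ C.Ucl Q → π x = π y := fun x y h =>
    QuotientGroup.eq.2 (by simpa [Subgroup.mem_subgroupOf] using h)
  have hZ : π Z = 1 := by
    rw [← map_one π]
    exact hker Z 1 (by simpa [Z] using inv_mem hz)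
  have hcw : ∀ {u : ℕ} (e : F), u < D.nroots → u ≠ t → t ≠ D.neg u → (∀ c ∈ oddTerms D u t, c.1 ∈ Q) →
      ∀ U : N, (U : GL D.Idx F) = C.xGL u e → π W * π U = π U * π W := by
    intro u e hun hut hneg hQ' U hU
    rw [← map_mul, ← map_mul]
    symm
    refine hker (U * W) (W * U) ?_
    simp only [Subgroup.coe_mul, hU, W]
    rw [C.xGL_comm hun htn (Ne.symm hut) hneg e γ, inv_mul_cancel_left]
    exact commWord_mem C hQ' _ _
  have hneg : ∀ {u v : ℕ}, u ∈ P → v ∈ P → v ≠ D.neg u := fun hu hv e =>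
    C.R.not_pos_and_neg (hP.pos _ hv) (by rw [e, C.R.isNeg_neg_iff (hP.pos _ hu).1]; exact hP.pos _ hu)
  have hWX : π W * π X = π X * π W := hcw α han hat (hneg ha ht) hta X rfl
  have hWY : π W * π Y = π Y * π W := hcw β hbn hbt (hneg hb ht) htb Y rfl
  have hYX : π Y * π X = π X * π Y * π W' := by
    rw [← map_mul, ← map_mul, ← map_mul]
    symm
    refine hker (X * Y * W') (Y * X) ?_
    simp only [Subgroup.coe_mul, X, Y, W']
    rw [C.xGL_comm han hbn (Ne.symm hab) (hneg ha hb) α β]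
    rw [show (C.xGL a α * C.xGL b β * C.xGL t (α * β))⁻¹ *
        (C.xGL a α * C.xGL b β * C.wordGL (D.commWord F a b α β)) =
        (C.xGL t (α * β))⁻¹ * C.wordGL (D.commWord F a b α β) by group, commWord_eq C]
    have h := coord_word C htn htQ ((oddTerms D a b).map fun d => (d.1, α ^ d.2.2.1 * β ^ d.2.2.2))
      (by
        intro p hp
        obtain ⟨d, hd, rfl⟩ := List.mem_map.1 hp
        exact hter d hd)
    rw [List.filter_map] at h
    simp only [Function.comp_def] at h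
    rw [hterm] at h
    simpa [hij.1, hij.2, Coord] using h
  have hsq' : ∀ {u : ℕ} (e : F) (U : N), (U : GL D.Idx F) = C.xGL u e → π U * π U = 1 := by
    intro u e U hU
    rw [← map_mul, ← map_one π]
    congr 1
    exact Subtype.ext (by simp [hU, ← C.xGL_add, CharTwo.add_self_eq_zero, C.xGL_zero])
  have hgg : π X * π Y * π W * (π X * π Y * π W) = 1 := by
    have h0 : (X * Y * W * Z) * (X * Y * W * Z) = 1 := Subtype.ext (by
      simp only [Subgroup.coe_mul, Subgroup.coe_one, X, Y, W, Z]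
      rw [← hgw]; exact hsq)
    have := congrArg π h0
    simpa only [map_mul, map_one, hZ, mul_one] using this
  have hW' : π W' = 1 := by
    have hw'y : π W' * π Y = π Y * π W' := by
      rw [← map_mul, ← map_mul]
      symm
      refine hker (Y * W') (W' * Y) ?_
      simp only [Subgroup.coe_mul, Y, W']
      rw [C.xGL_comm hbn htn (Ne.symm hbt) (hneg hb ht) β (α * β), inv_mul_cancel_left]
      exact commWord_mem C htb _ _
    calc π W' = (π X * π X) * (π Y * π Y) * π W' * (π W * π W) := by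
          rw [hsq' α X rfl, hsq' β Y rfl, hsq' γ W rfl]; simp
      _ = π X * (π X * π Y * π W') * π Y * (π W * π W) := by
          simp only [mul_assoc]; rw [← mul_assoc (π W') (π Y), hw'y, mul_assoc (π Y) (π W')]
      _ = π X * (π Y * π X) * π Y * (π W * π W) := by rw [hYX]
      _ = π X * π Y * (π X * π Y * π W) * π W := by group
      _ = π X * π Y * (π W * (π X * π Y)) * π W := by
          rw [← mul_assoc (π W), hWX, mul_assoc (π X) (π W), hWY]; group
      _ = π X * π Y * π W * (π X * π Y * π W) := by group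
      _ = 1 := hgg
  have hmem : C.xGL t (α * β) ∈ C.Ucl Q := by
    rw [← map_one π] at hW'
    have h := QuotientGroup.eq.1 hW'
    simpa [Subgroup.mem_subgroupOf, W'] using h
  rcases mul_eq_zero.1 (indep C hQ (hP.pos t ht) (fun h => h.2 rfl) hmem) with h | h
  · exact hα h
  · exact hβ h

end CfsgLib.F4Invol
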