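import Cfsg.Agent.Lib.F4Invol.Descent
import Cfsg.Agent.Lib.ChevStr.Bruhat

/-!
Descent steps given by fundamental reflections and by the torus.
-/

set_option autoImplicit false
set_option linter.unusedSectionVars false

namespace CfsgLib.F4Invol

open Cfsg.Lie CfsgLib.ChevStr
open scoped MatrixGroups

variable {D : ChevalleyDatum} {F : Type*} [Field F] [CharP F 2] (C : ChevCore D F)
  {T : Set (GL D.Idx F)}

theorem Good.mono {P M M' : Set ℕ} (h : Good C T P M') (hM : M' ⊆ M) : Good C T P M :=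
  fun g hG h1 h2 hg hn => h g hG h1 h2 hg fun n hm => hn n (hM hm)

theorem cast_sign {e : ℤ} (he : e = 1 ∨ e = -1) : (e : F) = 1 := by
  rcases he with rfl | rfl <;> simp [CharTwo.neg_eq]

/-- Change of frame by a fundamental reflection. -/
theorem good_move (i : Fin D.rank) {P M : Set ℕ} (hP : ∀ r ∈ P, r < D.nroots) (hMP : M ⊆ P)
    (child : Good C T (D.reflectRoot i.val '' P) (D.reflectRoot i.val '' M)) : Good C T P M := by
  intro g hG h1 h2 hg hM
  obtain ⟨-, e, he⟩ := C.acts_nS i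
  have hconj : ∀ {r : ℕ} (hr : r < D.nroots) (t : F),
      C.nS i * C.xGL r t * (C.nS i)⁻¹ = C.xGL (D.reflectRoot i.val r) t := by
    intro r hr t
    have h3 := (he ⟨r, hr⟩).2.2 t
    rw [cast_sign (he ⟨r, hr⟩).1, one_mul, C.hR.sPerm_val] at h3
    exact h3
  have hle : ∀ S : Set ℕ, (∀ r ∈ S, r < D.nroots) →
      C.Ucl S ≤ (C.Ucl (D.reflectRoot i.val '' S)).comap (MulAut.conj (C.nS i)).toMonoidHom := by
    intro S hS
    refine C.Ucl_le fun r hr t => ?_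
    show C.nS i * C.xGL r t * (C.nS i)⁻¹ ∈ C.Ucl (D.reflectRoot i.val '' S)
    rw [hconj (hS r hr) t]
    exact C.xGL_mem_Ucl (S := D.reflectRoot i.val '' S) ⟨r, hr, rfl⟩ t
  have hge : ∀ S : Set ℕ, (∀ r ∈ S, r < D.nroots) →
      C.Ucl (D.reflectRoot i.val '' S) ≤ (C.Ucl S).comap (MulAut.conj (C.nS i)⁻¹).toMonoidHom := by
    intro S hS
    refine C.Ucl_le ?_
    rintro _ ⟨r, hr, rfl⟩ t
    show (C.nS i)⁻¹ * C.xGL (D.reflectRoot i.val r) t * (C.nS i)⁻¹⁻¹ ∈ C.Ucl S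
    rw [← hconj (hS r hr) t, show (C.nS i)⁻¹ * (C.nS i * C.xGL r t * (C.nS i)⁻¹) * (C.nS i)⁻¹⁻¹ =
      C.xGL r t by group]
    exact C.xGL_mem_Ucl hr t
  refine child.conj C hG (C.nGL_mem_group _ 1) h1 h2 (hle P hP hg) ?_
  rintro _ ⟨n, hn, rfl⟩ hmem
  have hsub : D.reflectRoot i.val '' P \ {D.reflectRoot i.val n} ⊆
      D.reflectRoot i.val '' (P \ {n}) := by
    rintro _ ⟨⟨x, hx, rfl⟩, hne⟩
    exact ⟨x, ⟨hx, fun e : x = n => hne (by rw [e]; rfl)⟩, rfl⟩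
  refine hM n hn ?_
  have h3 := hge (P \ {n}) (fun r hr => hP r hr.1) (C.Ucl_mono hsub hmem)
  simpa [mul_assoc, ChevCore.nS] using h3

theorem good_moves : ∀ (w : List (Fin D.rank)) {P M : Set ℕ}, (∀ r ∈ P, r < D.nroots) → M ⊆ P →
    Good C T (w.foldl (fun S i => D.reflectRoot i.val '' S) P) (w.foldl (fun S i => D.reflectRoot i.val '' S) M) →
    Good C T P M := by
  intro w
  induction w with
  | nil => intro P M _ _ h; exact h
  | cons i w ih =>
    intro P M hP hMP h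
    refine good_move C i hP hMP (ih ?_ (Set.image_mono hMP) h)
    rintro _ ⟨r, hr, rfl⟩
    rw [← C.hR.sPerm_val i ⟨r, hP r hr⟩]
    exact Fin.isLt _

/-- A single nonzero coordinate is normalised by the torus. -/
theorem good_one {P M : Set ℕ} {a : ℕ} (hP : P = {a}) (han : a < D.nroots)
    (hT : C.xGL a 1 ∈ T)
    (hchar : ∀ A : Fˣ, ∃ c : Fin D.rank → Fˣ, C.R.torusChar c (C.R.α a) = A) : Good C T P M := by
  intro g _ h1 _ hg _
  have hmem : g ∈ D.rootSubgroup F a :=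
    C.Ucl_le (fun r hr t => C.mem_rootSubgroup.2 ⟨t, by rw [hP] at hr; rw [hr]⟩) hg
  obtain ⟨α, rfl⟩ := C.mem_rootSubgroup.1 hmem
  have hα : α ≠ 0 := fun e => h1 (by rw [e, C.xGL_zero])
  obtain ⟨c, hc⟩ := hchar (Units.mk0 α hα)⁻¹
  refine ⟨C.R.torus c, C.borel_le_group (C.torus_mem_borel c), ?_⟩
  rw [C.acts_torus c ⟨a, han⟩ α]
  simpa [hc, hα] using hT

/-- Two nonzero commuting coordinates are normalised by the torus. -/
theorem good_two {P M : Set ℕ} {a b : ℕ} (hP : P = {a, b}) (hab : a ≠ b) (han : a < D.nroots)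
    (hbn : b < D.nroots) (haM : a ∈ M) (hbM : b ∈ M) (hstep : OddStep D a (P \ {a}))
    (hT : C.xGL a 1 * C.xGL b 1 ∈ T)
    (hchar : ∀ A B : Fˣ, ∃ c : Fin D.rank → Fˣ,
      C.R.torusChar c (C.R.α a) = A ∧ C.R.torusChar c (C.R.α b) = B) : Good C T P M := by
  intro g _ _ _ hg hM
  have hPa : P \ {a} = {b} := by
    rw [hP]; ext x; simp only [Set.mem_sdiff, Set.mem_insert_iff, Set.mem_singleton_iff]
    constructor
    · rintro ⟨h | h, h'⟩
      · exact absurd h h'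
      · exact h
    · intro h; exact ⟨Or.inr h, fun e => hab (e.symm.trans h)⟩
  obtain ⟨α, v, hv, hgv⟩ := exists_split C han hstep hg
  have hmem : v ∈ D.rootSubgroup F b :=
    C.Ucl_le (fun r hr t => C.mem_rootSubgroup.2 ⟨t, by rw [hPa] at hr; rw [hr]⟩) hv
  obtain ⟨β, rfl⟩ := C.mem_rootSubgroup.1 hmem
  have hα : α ≠ 0 := fun e => hM a haM (by rw [hgv, e, C.xGL_zero, one_mul]; exact hv)
  have hβ : β ≠ 0 := fun e => hM b hbM (by
    rw [hgv, e, C.xGL_zero, mul_one]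
    exact C.xGL_mem_Ucl (show a ∈ P \ {b} from ⟨by rw [hP]; exact Or.inl rfl, hab⟩) α)
  obtain ⟨c, hca, hcb⟩ := hchar (Units.mk0 α hα)⁻¹ (Units.mk0 β hβ)⁻¹
  refine ⟨C.R.torus c, C.borel_le_group (C.torus_mem_borel c), ?_⟩
  rw [hgv, show C.R.torus c * (C.xGL a α * C.xGL b β) * (C.R.torus c)⁻¹ =
    (C.R.torus c * C.xGL a α * (C.R.torus c)⁻¹) * (C.R.torus c * C.xGL b β * (C.R.torus c)⁻¹) by group,
    C.acts_torus c ⟨a, han⟩ α, C.acts_torus c ⟨b, hbn⟩ β]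
  simpa [hca, hcb, hα, hβ] using hT

end CfsgLib.F4Invol
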