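import Cfsg.Agent.Lib.Twisted.Sparse
import Cfsg.Agent.Lib.ChevStr.InstanceTables

/-!
The ideal spanned by the short root vectors in the Lie algebra of type F4 in characteristic two,
and two rank invariants of the conjugacy classes attached to it.
-/

set_option autoImplicit false
set_option linter.unusedSectionVars false

namespace CfsgLib.F4Invol

open Cfsg.Lie CfsgLib.ChevStr CfsgLib.Twisted
open scoped MatrixGroups

/-- The coordinates of the ideal: short root vectors and two fundamental coroots. -/
def idealMask : ℕ := 0x11fe381c7f883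

/-- Membership in the ideal. -/
def inIdeal (a : chevF4.Idx) : Bool := idealMask.testBit (code chevF4 a)

/-- No item of `x_r` with odd coefficient leaves the ideal. -/
theorem items_ideal : ∀ r : Fin chevF4.nroots, ∀ it ∈ items chevF4 r.val,
    idealMask.testBit it.1.2 = true → idealMask.testBit it.1.1 = false → it.2.2 % 2 = 0 := by
  decide +kernel

theorem neg_ne_F4 : ∀ r : Fin chevF4.nroots, chevF4.negIdx.getD r.val 0 ≠ r.val := by decide +kernel

variable {F : Type*} [Field F]

/-- The projection on the ideal. -/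
def projI : Matrix chevF4.Idx chevF4.Idx F := Matrix.diagonal fun a => if inIdeal a then 1 else 0

/-- The projection off the ideal. -/
def projQ : Matrix chevF4.Idx chevF4.Idx F := Matrix.diagonal fun a => if inIdeal a then 0 else 1

theorem projQ_projI : (projQ : Matrix chevF4.Idx chevF4.Idx F) * projI = 0 := by
  rw [projQ, projI, Matrix.diagonal_mul_diagonal, ← Matrix.diagonal_zero]
  congr 1
  funext a
  split_ifs <;> simp

theorem projI_add_projQ : (projI : Matrix chevF4.Idx chevF4.Idx F) + projQ = 1 := by
  rw [projQ, projI, Matrix.diagonal_add, ← Matrix.diagonal_one]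
  congr 1
  funext a
  split_ifs <;> simp

variable [CharP F 2]

theorem xMat_ideal (r : Fin chevF4.nroots) (t : F) :
    projQ * chevF4.xMat F r t * projI = 0 := by
  ext a b
  rw [projQ, projI, Matrix.mul_diagonal, Matrix.diagonal_mul, Matrix.zero_apply]
  split_ifs with ha hb hb <;> simp only [zero_mul, mul_zero, one_mul, mul_one]
  rw [xMat_eq_items r (neg_ne_F4 r) t a b, Matrix.one_apply_ne fun e : a = b => ha (e ▸ hb), zero_add, evalAt]
  refine List.sum_eq_zero fun x hx => ?_
  obtain ⟨it, hit, rfl⟩ := List.mem_map.1 hx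
  obtain ⟨hit, hpos⟩ := List.mem_filter.1 hit
  rw [decide_eq_true_eq] at hpos
  have h := items_ideal r it hit (by rw [hpos]; exact hb) (by rw [hpos]; simpa [inIdeal] using ha)
  rw [(CharP.intCast_eq_zero_iff F 2 _).2 (Int.dvd_of_emod_eq_zero h), zero_mul]

theorem ideal_of_mem {g : GL chevF4.Idx F} (hg : g ∈ chevF4.group F) :
    projQ * (g : Matrix chevF4.Idx chevF4.Idx F) * projI = 0 := by
  refine Subgroup.closure_induction''
    (p := fun (g : GL chevF4.Idx F) _ => projQ * (g : Matrix chevF4.Idx chevF4.Idx F) * projI = 0) ?_ ?_ ?_ ?_ hg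
  · rintro x ⟨r, t, hx⟩
    rw [hx]; exact xMat_ideal r t
  · rintro x ⟨r, t, hx⟩
    have h : x⁻¹ = (coreF4 F).xGL r.val (-t) := by
      rw [← ChevCore.xGL_inv]
      congr 1
      exact Units.ext (by simp [hx, ChevalleyDatum.x, r.isLt])
    rw [h, ChevCore.coe_xGL, ChevalleyDatum.x, dif_pos r.isLt]
    exact xMat_ideal r _
  · rw [Units.val_one, mul_one, projQ_projI]
  · intro x y _ _ hx hy
    rw [Units.val_mul]
    generalize x.val = X at hx
    generalize y.val = Y at hy
    calc projQ * (X * Y) * projI = projQ * X * (projI + projQ) * (Y * projI) := by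
          rw [projI_add_projQ, mul_one]; simp only [mul_assoc]
      _ = (projQ * X * projI) * (Y * projI) + projQ * X * (projQ * Y * projI) := by
          rw [mul_add, add_mul]; simp only [mul_assoc]
      _ = 0 := by rw [hx, hy, zero_mul, mul_zero, add_zero]

/-- The rank on the ideal. -/
noncomputable def rankI (g : GL chevF4.Idx F) : ℕ :=
  (((g : Matrix chevF4.Idx chevF4.Idx F) - 1) * projI).rank

/-- The rank on the quotient by the ideal. -/
noncomputable def rankQ (g : GL chevF4.Idx F) : ℕ :=
  (projQ * ((g : Matrix chevF4.Idx chevF4.Idx F) - 1)).rank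

theorem rankI_conj_le {h : GL chevF4.Idx F} (hh : h ∈ chevF4.group F) (g : GL chevF4.Idx F) :
    rankI (h * g * h⁻¹) ≤ rankI g := by
  have hi := ideal_of_mem (inv_mem hh)
  have hinv : (h : Matrix chevF4.Idx chevF4.Idx F) * (h⁻¹ : GL chevF4.Idx F) = 1 := Units.mul_inv h
  have hc : ((h * g * h⁻¹ : GL chevF4.Idx F) : Matrix chevF4.Idx chevF4.Idx F) = h.val * g.val * (h⁻¹).val := rfl
  unfold rankI
  rw [hc]
  generalize (h⁻¹).val = H' at hi hinv ⊢
  generalize h.val = H at hinv ⊢
  generalize g.val = G
  have hfix : projI * (H' * projI) = H' * projI := by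
    calc projI * (H' * projI) = projI * (H' * projI) + projQ * H' * projI := by rw [hi, add_zero]
      _ = (projI + projQ) * (H' * projI) := by rw [add_mul, mul_assoc projQ]
      _ = H' * projI := by rw [projI_add_projQ, one_mul]
  have e : (H * G * H' - 1) * projI = H * (((G - 1) * projI) * (H' * projI)) := by
    rw [mul_assoc (G - 1), hfix, show H * G * H' - 1 = H * (G - 1) * H' by
      rw [mul_sub, mul_one, sub_mul, hinv]]
    simp only [mul_assoc]
  rw [e]
  exact (Matrix.rank_mul_le_right _ _).trans (Matrix.rank_mul_le_left _ _)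

theorem rankQ_conj_le {h : GL chevF4.Idx F} (hh : h ∈ chevF4.group F) (g : GL chevF4.Idx F) :
    rankQ (h * g * h⁻¹) ≤ rankQ g := by
  have hi := ideal_of_mem hh
  have hinv : (h : Matrix chevF4.Idx chevF4.Idx F) * (h⁻¹ : GL chevF4.Idx F) = 1 := Units.mul_inv h
  have hc : ((h * g * h⁻¹ : GL chevF4.Idx F) : Matrix chevF4.Idx chevF4.Idx F) = h.val * g.val * (h⁻¹).val := rfl
  unfold rankQ
  rw [hc]
  generalize (h⁻¹).val = H' at hinv ⊢
  generalize h.val = H at hi hinv ⊢
  generalize g.val = G
  have hfix : projQ * H * projQ = projQ * H := by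
    calc projQ * H * projQ = projQ * H * projI + projQ * H * projQ := by rw [hi, zero_add]
      _ = projQ * H * (projI + projQ) := by rw [mul_add]
      _ = projQ * H := by rw [projI_add_projQ, mul_one]
  have e : projQ * (H * G * H' - 1) = ((projQ * H) * (projQ * (G - 1))) * H' := by
    rw [← mul_assoc (projQ * H), hfix, show H * G * H' - 1 = H * (G - 1) * H' by
      rw [mul_sub, mul_one, sub_mul, hinv]]
    simp only [mul_assoc]
  rw [e]
  exact (Matrix.rank_mul_le_left _ _).trans (Matrix.rank_mul_le_right _ _)

theorem rank_conj {g g' h : GL chevF4.Idx F} (hh : h ∈ chevF4.group F) (he : h * g * h⁻¹ = g') :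
    rankI g = rankI g' ∧ rankQ g = rankQ g' := by
  have h1 := rankI_conj_le hh g
  have h2 := rankQ_conj_le hh g
  have h3 := rankI_conj_le (inv_mem hh) g'
  have h4 := rankQ_conj_le (inv_mem hh) g'
  rw [he] at h1 h2
  rw [← he, show h⁻¹ * (h * g * h⁻¹) * h⁻¹⁻¹ = g by group, he] at h3 h4
  exact ⟨le_antisymm h3 h1, le_antisymm h4 h2⟩

/-- A matrix of zeros and ones given by a list of positions, counted with multiplicity. -/
def spMat {α β : Type*} (K : Type*) [Semiring K] (ca : α → ℕ) (cb : β → ℕ) (l : List (ℕ × ℕ)) : Matrix α β K :=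
  Matrix.of fun a b => ((l.count (ca a, cb b) : ℕ) : K)

/-- The positions of a product. -/
def joinPos (l l' : List (ℕ × ℕ)) : List (ℕ × ℕ) :=
  l.flatMap fun p => (l'.filter fun q => Nat.beq q.1 p.2).map fun q => (p.1, q.2)

/-- Two lists give the same matrix in characteristic two. -/
def sameMod (l l' : List (ℕ × ℕ)) : Bool :=
  (l ++ l').all fun p => Nat.beq (l.count p % 2) (l'.count p % 2)

theorem spMat_eq {α β K : Type*} [Field K] [CharP K 2] {ca : α → ℕ} {cb : β → ℕ} {l l' : List (ℕ × ℕ)}
    (h : sameMod l l' = true) : spMat K ca cb l = spMat K ca cb l' := by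
  ext a b
  simp only [spMat, Matrix.of_apply]
  rw [CharP.natCast_eq_natCast K 2, Nat.ModEq]
  by_cases hm : (ca a, cb b) ∈ l ++ l'
  · exact Nat.eq_of_beq_eq_true (List.all_eq_true.1 h _ hm)
  · rw [List.mem_append, not_or] at hm
    rw [List.count_eq_zero.2 hm.1, List.count_eq_zero.2 hm.2]

theorem spMat_append {α β K : Type*} [Semiring K] (ca : α → ℕ) (cb : β → ℕ) (l l' : List (ℕ × ℕ)) :
    spMat K ca cb (l ++ l') = spMat K ca cb l + spMat K ca cb l' := by
  ext a b
  simp [spMat, List.count_append]

theorem count_map_fst (i : ℕ) : ∀ (l : List (ℕ × ℕ)) (j : ℕ) (a c : ℕ),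
    ((l.filter fun q => Nat.beq q.1 j).map fun q => (i, q.2)).count (a, c) =
      if i = a then l.count (j, c) else 0
  | [], j, a, c => by simp
  | q :: l, j, a, c => by
    obtain ⟨q1, q2⟩ := q
    have ih := count_map_fst i l j a c
    by_cases hq : q1 = j
    · subst hq
      rw [List.filter_cons_of_pos (by simp), List.map_cons, List.count_cons, List.count_cons, ih]
      by_cases hi : i = a <;> simp [hi, Prod.ext_iff]
    · rw [List.filter_cons_of_neg (by simpa [Nat.beq_eq] using hq), List.count_cons, ih]
      by_cases hi : i = a <;> simp [hi, Prod.ext_iff, hq]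

theorem spMat_mul {α β γ K : Type*} [Semiring K] [Fintype β] {ca : α → ℕ} {cb : β → ℕ} {cc : γ → ℕ}
    (hinj : Function.Injective cb) {N : ℕ} (hsurj : ∀ n < N, ∃ b, cb b = n) (l' : List (ℕ × ℕ)) :
    ∀ l : List (ℕ × ℕ), (l.all fun p => Nat.blt p.2 N) = true →
      spMat K ca cb l * spMat K cb cc l' = spMat K ca cc (joinPos l l') := by
  classical
  intro l
  induction l with
  | nil => intro _; ext a c; simp [spMat, joinPos, Matrix.mul_apply]
  | cons p l ih =>
    intro h
    simp only [List.all_cons, Bool.and_eq_true] at h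
    obtain ⟨i, j⟩ := p
    obtain ⟨b, hb⟩ := hsurj j (Nat.le_of_ble_eq_true h.1)
    have ih' := ih h.2
    ext a c
    have h1 := congrFun (congrFun ih' a) c
    simp only [spMat, Matrix.mul_apply, Matrix.of_apply] at h1 ⊢
    simp only [joinPos, List.flatMap_cons, List.count_append, List.count_cons, Nat.cast_add, add_mul,
      Finset.sum_add_distrib, count_map_fst]
    rw [h1, add_comm]
    refine congrArg₂ (· + ·) ?_ rfl
    rw [Fintype.sum_eq_single b]
    · by_cases hi : i = ca a <;> simp [hi, hb, Prod.ext_iff]
    · intro x hx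
      have : cb x ≠ j := fun e => hx (hinj (e.trans hb.symm))
      simp [Prod.ext_iff, Ne.symm this]

theorem spMat_diag {α K : Type*} [Semiring K] [DecidableEq α] {ca : α → ℕ} (hinj : Function.Injective ca)
    {N : ℕ} (hlt : ∀ a, ca a < N) (p : ℕ → Bool) :
    spMat K ca ca (((List.range N).filter p).map fun i => (i, i)) =
      Matrix.diagonal fun a => if p (ca a) then (1 : K) else 0 := by
  ext a b
  rw [spMat, Matrix.of_apply]
  have hnd : (((List.range N).filter p).map fun i => (i, i)).Nodup :=
    (List.nodup_range.filter p).map fun x y h => congrArg Prod.fst h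
  rw [List.Nodup.count hnd]
  by_cases hab : a = b
  · subst hab
    rw [Matrix.diagonal_apply_eq]
    by_cases hp : p (ca a) <;> simp [hp, hlt a]
  · rw [Matrix.diagonal_apply_ne _ hab, if_neg, Nat.cast_zero]
    simp only [List.mem_map, Prod.ext_iff, not_exists, not_and]
    exact fun x _ h1 h2 => hab (hinj (h1.symm.trans h2))

theorem code_lt (a : chevF4.Idx) : code chevF4 a < 52 := by
  rcases a with i | s
  · exact lt_of_lt_of_le i.isLt (by decide +kernel)
  · exact lt_of_lt_of_le (Nat.add_lt_add_left s.isLt _) (by decide +kernel)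

theorem exists_code : ∀ n < 52, ∃ a : chevF4.Idx, code chevF4 a = n := by
  intro n hn
  by_cases h : n < chevF4.rank
  · exact ⟨Sum.inl ⟨n, h⟩, rfl⟩
  · have h52 : chevF4.rank + chevF4.nroots = 52 := by decide +kernel
    exact ⟨Sum.inr ⟨n - chevF4.rank, by omega⟩, by simp only [code]; omega⟩

/-- A factorisation with one-sided inverses gives the rank. -/
theorem rank_of_cert {K : Type*} [Field K] [CharP K 2] {M A B A' B' : List (ℕ × ℕ)} {r : ℕ}
    (hA : (A.all fun p => Nat.blt p.2 r) = true) (hA' : (A'.all fun p => Nat.blt p.2 52) = true)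
    (hM : (M.all fun p => Nat.blt p.2 52) = true) (hM' : ((joinPos A' M).all fun p => Nat.blt p.2 52) = true)
    (h1 : sameMod (joinPos A B) M = true)
    (h2 : sameMod (joinPos (joinPos A' M) B') (((List.range r).filter fun _ => true).map fun i => (i, i)) = true) :
    (spMat K (code chevF4) (code chevF4) M).rank = r := by
  classical
  have hF : ∀ n < r, ∃ a : Fin r, a.val = n := fun n hn => ⟨⟨n, hn⟩, rfl⟩
  refine le_antisymm ?_ ?_
  · rw [← spMat_eq h1, ← spMat_mul (K := K) (cb := (Fin.val : Fin r → ℕ)) Fin.val_injective hF B A hA]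
    exact (Matrix.rank_mul_le_left _ _).trans ((Matrix.rank_le_card_width _).trans (Fintype.card_fin r).le)
  · have h3 : spMat K (Fin.val : Fin r → ℕ) (code chevF4) A' * spMat K (code chevF4) (code chevF4) M *
        spMat K (code chevF4) (Fin.val : Fin r → ℕ) B' = 1 := by
      rw [spMat_mul (code_injective chevF4) exists_code M A' hA',
        spMat_mul (code_injective chevF4) exists_code B' _ hM', spMat_eq h2,
        spMat_diag Fin.val_injective (fun a => a.isLt)]
      simp
    have h4 := congrArg Matrix.rank h3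
    rw [Matrix.rank_one, Fintype.card_fin] at h4
    rw [← h4]
    exact (Matrix.rank_mul_le_left _ _).trans (Matrix.rank_mul_le_right _ _)

/-- The positions of `x_r(1) - 1` in characteristic two. -/
def oddPos (r : ℕ) : List (ℕ × ℕ) :=
  ((items chevF4 r).filter fun it => decide (it.2.2 % 2 ≠ 0)).map fun it => it.1

theorem x_one_eq {r : ℕ} (hr : r < chevF4.nroots) :
    chevF4.x F r 1 = 1 + spMat F (code chevF4) (code chevF4) (oddPos r) := by
  rw [ChevalleyDatum.x, dif_pos hr]
  ext a b
  rw [xMat_eq_items ⟨r, hr⟩ (neg_ne_F4 ⟨r, hr⟩) 1 a b, Matrix.add_apply]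
  congr 1
  simp only [spMat, Matrix.of_apply, oddPos, evalAt]
  generalize (code chevF4 a, code chevF4 b) = p
  induction items chevF4 r with
  | nil => simp
  | cons it l ih =>
    by_cases hp : it.1 = p
    · by_cases ho : it.2.2 % 2 = 0
      · rw [List.filter_cons_of_pos (by simp [hp]), List.filter_cons_of_neg (by simp [ho]), List.map_cons,
          List.sum_cons, ih, (CharP.intCast_eq_zero_iff F 2 _).2 (Int.dvd_of_emod_eq_zero ho), zero_mul,
          zero_add]
      · have h0 : (it.2.2 : F) = 1 := by
          have h1 : ((it.2.2 - 1 : ℤ) : F) = 0 := (CharP.intCast_eq_zero_iff F 2 _).2 (by push_cast; omega)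
          push_cast at h1
          exact sub_eq_zero.1 h1
        rw [List.filter_cons_of_pos (by simp [hp]), List.filter_cons_of_pos (by simp [ho]), List.map_cons,
          List.sum_cons, ih, List.map_cons, hp, List.count_cons_self, h0, one_pow, one_mul, Nat.cast_succ,
          add_comm]
    · by_cases ho : it.2.2 % 2 = 0
      · rw [List.filter_cons_of_neg (by simp [hp]), List.filter_cons_of_neg (by simp [ho]), ih]
      · rw [List.filter_cons_of_neg (by simp [hp]), List.filter_cons_of_pos (by simp [ho]), ih, List.map_cons,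
          List.count_cons_of_ne hp]

/-- The positions of the ideal. -/
def posI : List (ℕ × ℕ) := ((List.range 52).filter fun i => idealMask.testBit i).map fun i => (i, i)

/-- The positions off the ideal. -/
def posQ : List (ℕ × ℕ) := ((List.range 52).filter fun i => !idealMask.testBit i).map fun i => (i, i)

theorem spMat_posI : spMat F (code chevF4) (code chevF4) posI = projI := by
  rw [posI, spMat_diag (code_injective chevF4) code_lt]
  rfl

theorem spMat_posQ : spMat F (code chevF4) (code chevF4) posQ = projQ := by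
  rw [posQ, spMat_diag (code_injective chevF4) code_lt, projQ]
  congr 1
  funext a
  simp only [inIdeal]
  split_ifs <;> simp_all

end CfsgLib.F4Invol
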