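import Cfsg.Agent.Lib.ChevStr.Unipotent

/-!
Root subgroups in characteristic two: only the terms of the commutator formula with odd
coefficient survive. Descent steps for involutions inside subgroups of such closed sets.
-/

set_option autoImplicit false
set_option linter.unusedSectionVars false

namespace CfsgLib.F4Invol

open Cfsg.Lie CfsgLib.ChevStr
open scoped MatrixGroups

/-- The terms with odd coefficient. -/
def oddTerms (D : ChevalleyDatum) (r s : ℕ) : List (ℕ × ℤ × ℕ × ℕ) :=
  (D.commTerms r s).filter fun c => decide (c.2.1 % 2 ≠ 0)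

/-- `x_r` normalises the subgroup of `S`. -/
def OddStep (D : ChevalleyDatum) (r : ℕ) (S : Set ℕ) : Prop :=
  ∀ s ∈ S, s < D.nroots ∧ s ≠ D.neg r ∧ (s ≠ r → ∀ c ∈ oddTerms D r s, c.1 ∈ S)

/-- Closed sets of positive roots in characteristic two. -/
structure Closed2 (D : ChevalleyDatum) (S : Set ℕ) : Prop where
  pos : ∀ r ∈ S, D.IsPosRoot r
  step : ∀ r ∈ S, OddStep D r S

variable {D : ChevalleyDatum} {F : Type*} [Field F] [CharP F 2] (C : ChevCore D F)

theorem commWord_eq (r s : ℕ) (t u : F) :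
    C.wordGL (D.commWord F r s t u) =
      C.wordGL ((oddTerms D r s).map fun c => (c.1, t ^ c.2.2.1 * u ^ c.2.2.2)) := by
  unfold ChevalleyDatum.commWord oddTerms
  induction D.commTerms r s with
  | nil => rfl
  | cons c l ih =>
    rw [List.map_cons, C.wordGL_cons, ih]
    by_cases hc : c.2.1 % 2 = 0
    · have h0 : (c.2.1 : F) = 0 := (CharP.intCast_eq_zero_iff F 2 _).2 (Int.dvd_of_emod_eq_zero hc)
      rw [List.filter_cons_of_neg (by simp [hc])]
      simp [h0, C.xGL_zero]
    · have h0 : (c.2.1 : F) = 1 := by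
        have h1 : ((c.2.1 - 1 : ℤ) : F) = 0 := (CharP.intCast_eq_zero_iff F 2 _).2 (by push_cast; omega)
        push_cast at h1
        exact sub_eq_zero.1 h1
      rw [List.filter_cons_of_pos (by simp [hc]), List.map_cons, C.wordGL_cons]
      simp [h0, CharTwo.neg_eq]

theorem commWord_mem {S : Set ℕ} {r s : ℕ} (h : ∀ c ∈ oddTerms D r s, c.1 ∈ S) (t u : F) :
    C.wordGL (D.commWord F r s t u) ∈ C.Ucl S := by
  rw [commWord_eq C]
  refine Subgroup.list_prod_mem _ fun x hx => ?_
  simp only [List.mem_map] at hx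
  obtain ⟨p, ⟨c, hc, rfl⟩, rfl⟩ := hx
  exact C.xGL_mem_Ucl (h c hc) _

theorem xGL_self_inv (r : ℕ) (t : F) : (C.xGL r t)⁻¹ = C.xGL r t := by
  rw [C.xGL_inv, CharTwo.neg_eq]

/-- Conjugation of one root element by another. -/
theorem xGL_conj_xGL {r s : ℕ} (hr : r < D.nroots) (hs : s < D.nroots) (h1 : s ≠ r)
    (h2 : s ≠ D.neg r) (t u : F) :
    (C.xGL r t)⁻¹ * C.xGL s u * C.xGL r t = C.xGL s u * C.wordGL (D.commWord F r s t u) := by
  rw [mul_assoc, C.xGL_comm hr hs h1 h2]
  group

theorem conj_mem {S : Set ℕ} {r : ℕ} (hr : r < D.nroots) (h : OddStep D r S) (t : F) :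
    ∀ g ∈ C.Ucl S, (C.xGL r t)⁻¹ * g * C.xGL r t ∈ C.Ucl S := by
  intro g hg
  refine Subgroup.closure_induction
    (p := fun g _ => (C.xGL r t)⁻¹ * g * C.xGL r t ∈ C.Ucl S) ?_ ?_ ?_ ?_ hg
  · rintro _ ⟨s, hs, u, rfl⟩
    obtain ⟨hsn, hneg, hk⟩ := h s hs
    by_cases hsr : s = r
    · subst hsr
      rw [mul_assoc, ← C.xGL_add, add_comm u t, C.xGL_add, inv_mul_cancel_left]
      exact C.xGL_mem_Ucl hs u
    · rw [xGL_conj_xGL C hr hsn hsr hneg]
      exact mul_mem (C.xGL_mem_Ucl hs u) (commWord_mem C (hk hsr) t u)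
  · simp
  · intro x y _ _ hx hy
    rw [show (C.xGL r t)⁻¹ * (x * y) * C.xGL r t =
      ((C.xGL r t)⁻¹ * x * C.xGL r t) * ((C.xGL r t)⁻¹ * y * C.xGL r t) by group]
    exact mul_mem hx hy
  · intro x _ hx
    rw [show (C.xGL r t)⁻¹ * x⁻¹ * C.xGL r t = ((C.xGL r t)⁻¹ * x * C.xGL r t)⁻¹ by group]
    exact inv_mem hx

theorem mem_normalizer {S : Set ℕ} {r : ℕ} (hr : r < D.nroots) (h : OddStep D r S) (t : F) :
    C.xGL r t ∈ Subgroup.normalizer (C.Ucl S : Set (GL D.Idx F)) := by
  refine Subgroup.mem_normalizer_iff.2 fun g => ⟨fun hg => ?_, fun hg => ?_⟩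
  · have := conj_mem C hr h (-t) g hg
    simpa [C.xGL_inv] using this
  · simpa [mul_assoc] using conj_mem C hr h t _ hg

theorem Ucl_le_normalizer {P S : Set ℕ} (hP : ∀ u ∈ P, u < D.nroots ∧ OddStep D u S) :
    C.Ucl P ≤ Subgroup.normalizer (C.Ucl S : Set (GL D.Idx F)) :=
  C.Ucl_le fun u hu t => mem_normalizer C (hP u hu).1 (hP u hu).2 t

/-- Splitting off one root. -/
theorem exists_split {S : Set ℕ} {k : ℕ} (hk : k < D.nroots) (h : OddStep D k (S \ {k}))
    {g : GL D.Idx F} (hg : g ∈ C.Ucl S) : ∃ c : F, ∃ v ∈ C.Ucl (S \ {k}), g = C.xGL k c * v := by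
  have hn : D.rootSubgroup F k ≤ Subgroup.normalizer (C.Ucl (S \ {k}) : Set (GL D.Idx F)) := by
    intro x hx
    obtain ⟨t, rfl⟩ := C.mem_rootSubgroup.1 hx
    exact mem_normalizer C hk h t
  have hle : C.Ucl S ≤ D.rootSubgroup F k ⊔ C.Ucl (S \ {k}) := by
    refine C.Ucl_le fun r hr t => ?_
    by_cases hrk : r = k
    · subst hrk
      exact le_sup_left (b := C.Ucl (S \ {r})) ((C.mem_rootSubgroup (r := r) (g := C.xGL r t)).2 ⟨t, rfl⟩)
    · exact le_sup_right (a := D.rootSubgroup F k) (C.xGL_mem_Ucl (show r ∈ S \ {k} from ⟨hr, hrk⟩) t)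
  obtain ⟨x, hx, y, hy, rfl⟩ := (Set.ext_iff.1
    (Subgroup.coe_mul_of_left_le_normalizer_right _ _ hn) g).1 (hle hg)
  obtain ⟨c, rfl⟩ := C.mem_rootSubgroup.1 hx
  exact ⟨c, y, hy, rfl⟩

/-- Ordered products exhaust the subgroup of a closed set. -/
theorem exists_word : ∀ {L : List ℕ}, L.Pairwise (· < ·) → Closed2 D {r | r ∈ L} →
    ∀ g ∈ C.Ucl {r | r ∈ L}, ∃ t : ℕ → F, g = C.word L t := by
  intro L
  induction L with
  | nil =>
    intro _ _ g hg
    refine ⟨fun _ => 0, ?_⟩
    have : C.Ucl {r | r ∈ ([] : List ℕ)} ≤ ⊥ := C.Ucl_le fun r hr => absurd hr List.not_mem_nil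
    simpa [C.word_nil] using this hg
  | cons k L ih =>
    intro hp hc g hg
    obtain ⟨hk, hpL⟩ := List.pairwise_cons.1 hp
    have hL : ({r | r ∈ k :: L} : Set ℕ) \ {k} = {r | r ∈ L} := by
      ext r
      simp only [Set.mem_sdiff, Set.mem_ofPred_eq, List.mem_cons, Set.mem_singleton_iff]
      constructor
      · rintro ⟨h | h, h'⟩
        · exact absurd h h'
        · exact h
      · exact fun h => ⟨Or.inr h, fun e => by have := hk r h; omega⟩
    have key : ∀ r ∈ k :: L, OddStep D r {r | r ∈ L} := by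
      intro r hr s hs
      obtain ⟨h1, h2, h3⟩ := hc.step r hr s (List.mem_cons_of_mem _ hs)
      refine ⟨h1, h2, fun hsr c hcm => ?_⟩
      obtain ⟨b1, b2, b3, b4⟩ := C.R.commTerms_spec (List.mem_filter.1 hcm).1
      have hlt := (C.R.combo_lt (hc.pos r hr) (hc.pos s (List.mem_cons_of_mem _ hs))
        ⟨b1, _, _, b2, b3, b4⟩).2
      rcases List.mem_cons.1 (h3 hsr c hcm) with h4 | h4
      · have := hk s hs; omega
      · exact h4
    obtain ⟨c, v, hv, rfl⟩ := exists_split C (k := k) (hc.pos k (List.mem_cons_self ..)).1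
      (by rw [hL]; exact key k (List.mem_cons_self ..)) hg
    rw [hL] at hv
    obtain ⟨t, rfl⟩ := ih hpL ⟨fun r hr => hc.pos r (List.mem_cons_of_mem _ hr),
      fun r hr => key r (List.mem_cons_of_mem _ hr)⟩ v hv
    refine ⟨Function.update t k c, ?_⟩
    rw [C.word_cons, Function.update_self]
    congr 1
    exact C.word_congr fun r hr => (Function.update_of_ne (fun e : r = k => by
      have := hk r hr; omega) _ _).symm

theorem word_filter_congr (p q : ℕ → Bool) (hpq : ∀ r, p r = true → q r = true) (t : ℕ → F) :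
    ∀ l : List ℕ, C.word (l.filter p) t = C.word (l.filter q) (fun r => if p r then t r else 0) := by
  intro l
  induction l with
  | nil => rfl
  | cons a l ih =>
    by_cases hp : p a = true
    · rw [List.filter_cons_of_pos hp, List.filter_cons_of_pos (hpq a hp), C.word_cons, C.word_cons, ih, if_pos hp]
    · rw [List.filter_cons_of_neg hp]
      by_cases hq : q a = true
      · rw [List.filter_cons_of_pos hq, C.word_cons, if_neg hp, C.xGL_zero, one_mul, ih]
      · rw [List.filter_cons_of_neg hq, ih]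

/-- A root element outside a closed set is not in its subgroup. -/
theorem indep {S : Set ℕ} (hS : Closed2 D S) {t : ℕ} (ht : D.IsPosRoot t) (htS : t ∉ S) {c : F}
    (h : C.xGL t c ∈ C.Ucl S) : c = 0 := by
  classical
  let p : ℕ → Bool := fun r => decide (r ∈ S)
  let q : ℕ → Bool := fun r => decide (r ∈ S ∨ r = t)
  let p₁ : ℕ → Bool := fun r => decide (r = t)
  have hset : {r | r ∈ (List.range D.nroots).filter p} = S := by
    ext r
    simp only [Set.mem_ofPred_eq, List.mem_filter, List.mem_range, p, decide_eq_true_eq]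
    exact ⟨fun hr => hr.2, fun hr => ⟨(hS.pos r hr).1, hr⟩⟩
  obtain ⟨u, hu⟩ := exists_word C (L := (List.range D.nroots).filter p) (List.pairwise_lt_range.filter _)
    (by rwa [hset]) _ (by rwa [hset])
  rw [word_filter_congr C p q (fun r hr => by simp [p, q] at hr ⊢; exact Or.inl hr)] at hu
  have h1 : C.xGL t c = C.word ((List.range D.nroots).filter p₁) (fun _ => c) := by
    have : (List.range D.nroots).filter p₁ = [t] := by
      have hnd := (List.nodup_range (n := D.nroots)).filter p₁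
      refine List.perm_singleton.1 ((List.perm_ext_iff_of_nodup hnd (List.nodup_singleton t)).2 fun a => ?_)
      simp only [List.mem_filter, List.mem_range, p₁, decide_eq_true_eq, List.mem_singleton]
      exact ⟨fun h => h.2, fun h => ⟨h ▸ ht.1, h⟩⟩
    rw [this, C.word_cons, C.word_nil, mul_one]
  rw [word_filter_congr C p₁ q (fun r hr => by simp [p₁, q] at hr ⊢; exact Or.inr hr)] at h1
  have h2 := C.word_injective (List.pairwise_lt_range.filter q) (fun r hr => by
    simp only [List.mem_filter, q, decide_eq_true_eq] at hr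
    rcases hr.2 with h | h
    · exact hS.pos r h
    · exact h ▸ ht) _ _ (h1.symm.trans hu) t
    (by simp [q, ht.1])
  simpa [p, p₁, htS] using h2

end CfsgLib.F4Invol
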